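import Groth.Prelude.Def_FrobAlg
import Mathlib

set_option autoImplicit false
set_option linter.unusedSectionVars false
universe u v w
open scoped TensorProduct
open FrobAlg

namespace Groth.Agent.FrobAlg53

variable (p : ℕ) [Fact p.Prime] (A : Type u) [CommRing A] [CharP A p]
  (B : Type v) [CommRing B] [Algebra A B] [CharP B p]

theorem relFrob_tmul (b : B) (t : Twist p A) :
    relFrob p A B (b ⊗ₜ[A] t) = b ^ p * algebraMap A B ((toTwist p A).symm t) := by
  simp [relFrob, frobHom, inclHom, Algebra.TensorProduct.lift_tmul]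
  rfl

theorem formallyEtale_of_bijective (h : Function.Bijective (relFrob p A B)) :
    Algebra.FormallyEtale A B := by
  rw [Algebra.FormallyEtale.iff_comp_bijective]
  intro T _ _ I hI
  rcases subsingleton_or_nontrivial T with hT | hT
  · refine ⟨fun g g' _ => AlgHom.ext fun x => Subsingleton.elim _ _, fun f => ?_⟩
    exact ⟨{ toFun := fun _ => 0, map_one' := Subsingleton.elim _ _,
             map_mul' := fun _ _ => Subsingleton.elim _ _, map_zero' := rfl,
             map_add' := fun _ _ => Subsingleton.elim _ _,
             commutes' := fun _ => Subsingleton.elim _ _ },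
      AlgHom.ext fun x => Subsingleton.elim _ _⟩
  haveI : CharP T p := (CharP.charP_iff_prime_eq_zero Fact.out).2 (by
    rw [← map_natCast (algebraMap A T), CharP.cast_eq_zero, map_zero])
  have hIp : ∀ x ∈ I, x ^ p = 0 := by
    intro x hx
    have h2 : x ^ 2 ∈ I ^ 2 := Ideal.pow_mem_pow hx 2
    rw [hI, Ideal.mem_bot] at h2
    exact pow_eq_zero_of_le (Fact.out : p.Prime).two_le h2
  have hwd : ∀ x y : T, Ideal.Quotient.mk I x = Ideal.Quotient.mk I y → x ^ p = y ^ p := by
    intro x y hxy
    rw [Ideal.Quotient.mk_eq_mk_iff_sub_mem] at hxy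
    rw [← sub_eq_zero, ← sub_pow_char, hIp _ hxy]
  -- any lift is determined by the reduction
  have huniq : ∀ g g' : B →ₐ[A] T, (Ideal.Quotient.mkₐ A I).comp g =
      (Ideal.Quotient.mkₐ A I).comp g' → g = g' := by
    intro g g' hgg
    ext b
    obtain ⟨z, rfl⟩ := h.2 b
    induction z using TensorProduct.induction_on with
    | zero => simp
    | tmul b t =>
      rw [relFrob_tmul, map_mul, map_mul, map_pow, map_pow, AlgHom.commutes, AlgHom.commutes,
        hwd (g b) (g' b) (DFunLike.congr_fun hgg b)]
    | add x y hx hy => simp only [map_add, hx, hy]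
  refine ⟨fun g g' hgg => huniq g g' hgg, fun f => ?_⟩
  let s : B → T := fun b => (Ideal.Quotient.mk_surjective (f b)).choose
  have hs : ∀ b, Ideal.Quotient.mk I (s b) = f b :=
    fun b => (Ideal.Quotient.mk_surjective (f b)).choose_spec
  let hh : B →ₐ[A] Target p A T :=
    { toFun := fun b => toTarget p A T (s b ^ p)
      map_one' := by
        rw [hwd (s 1) 1 (by rw [hs, map_one, map_one]), one_pow, map_one]
      map_mul' := fun x y => by
        rw [← map_mul, hwd (s (x * y)) (s x * s y) (by rw [hs, map_mul, map_mul, hs, hs]), mul_pow]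
      map_zero' := by
        rw [hwd (s 0) 0 (by rw [hs, map_zero, map_zero]), zero_pow (Fact.out : p.Prime).ne_zero,
          map_zero]
      map_add' := fun x y => by
        rw [← map_add, hwd (s (x + y)) (s x + s y) (by rw [hs, map_add, map_add, hs, hs]),
          add_pow_char]
      commutes' := fun a => by
        rw [algebraMap_target]
        rw [hwd (s (algebraMap A B a)) (algebraMap A T a) (by rw [hs, AlgHom.commutes]; rfl)] }
  let H : BaseChange p A B →+* T :=
    ((toTarget p A T).symm : Target p A T →+* T).comp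
      (Algebra.TensorProduct.lift hh (inclHom p A T) (fun _ _ => Commute.all _ _)).toRingHom
  have hH : ∀ b t, H (b ⊗ₜ[A] t) = s b ^ p * algebraMap A T ((toTwist p A).symm t) := by
    intro b t
    simp [H, hh, inclHom, Algebra.TensorProduct.lift_tmul]
  let e : BaseChange p A B ≃+* B := RingEquiv.ofBijective (relFrob p A B) h
  let g : B →ₐ[A] T :=
    { H.comp (e.symm : B →+* BaseChange p A B) with
      commutes' := fun a => by
        have : relFrob p A B ((1 : B) ⊗ₜ[A] toTwist p A a) = algebraMap A B a := by
          rw [relFrob_tmul, one_pow, one_mul, RingEquiv.symm_apply_apply]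
        change H (e.symm (algebraMap A B a)) = _
        rw [← this, show relFrob p A B ((1 : B) ⊗ₜ[A] toTwist p A a)
          = e ((1 : B) ⊗ₜ[A] toTwist p A a) from rfl, RingEquiv.symm_apply_apply, hH,
          RingEquiv.symm_apply_apply, hwd (s 1) 1 (by rw [hs, map_one, map_one]), one_pow, one_mul] }
  refine ⟨g, AlgHom.ext fun b => ?_⟩
  obtain ⟨z, rfl⟩ := h.2 b
  change Ideal.Quotient.mk I (H (e.symm (e z))) = f (relFrob p A B z)
  rw [RingEquiv.symm_apply_apply]
  induction z using TensorProduct.induction_on with
  | zero => simp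
  | tmul b t =>
    rw [hH, relFrob_tmul, map_mul, map_pow, hs, map_mul, map_pow, AlgHom.commutes]
    first | rfl | skip
  | add x y hx hy => simp only [map_add, hx, hy]

theorem bijective_of_etale_radicial {C : Type v} {B : Type w} [CommRing C] [CommRing B] [Algebra C B]
    [Algebra.Etale C B] (p : ℕ) [Fact p.Prime] [CharP B p]
    (hr : ∀ b : B, ∃ c, algebraMap C B c = b ^ p)
    (hk : ∀ x : C, algebraMap C B x = 0 → x ^ p = 0) :
    Function.Bijective (algebraMap C B) := by
  have hp0 : p ≠ 0 := (Fact.out : p.Prime).ne_zero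
  -- the diagonal ideal is nil and generated by an idempotent
  have hJ : KaehlerDifferential.ideal C B = ⊥ := by
    have hid : IsIdempotentElem (KaehlerDifferential.ideal C B) :=
      (Ideal.cotangent_subsingleton_iff _).1 (inferInstanceAs (Subsingleton Ω[B⁄C]))
    obtain ⟨e, he, hJe⟩ :=
      (Ideal.isIdempotentElem_iff_of_fg _ (KaehlerDifferential.ideal_fg C B)).1 hid
    have hnil : KaehlerDifferential.ideal C B ≤ nilradical (B ⊗[C] B) := by
      rw [← KaehlerDifferential.span_range_eq_ideal, Ideal.span_le]
      rintro _ ⟨b, rfl⟩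
      refine mem_nilradical.2 ⟨p, ?_⟩
      dsimp only
      obtain ⟨r, hr'⟩ := exists_add_pow_prime_eq (Fact.out : p.Prime) ((1 : B) ⊗ₜ[C] b - b ⊗ₜ[C] 1)
        (b ⊗ₜ[C] (1 : B))
      rw [sub_add_cancel] at hr'
      obtain ⟨c, hc⟩ := hr b
      have hpz : (p : B ⊗[C] B) = 0 := by
        rw [← map_natCast (algebraMap B (B ⊗[C] B)), CharP.cast_eq_zero, map_zero]
      rw [hpz, zero_mul, zero_mul, zero_mul, add_zero, Algebra.TensorProduct.tmul_pow,
        Algebra.TensorProduct.tmul_pow, one_pow, ← hc,
        ← Algebra.TensorProduct.tmul_one_eq_one_tmul] at hr'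
      exact add_eq_right.1 hr'.symm
    have hen : IsNilpotent e := mem_nilradical.1 (hnil (hJe ▸ Ideal.mem_span_singleton_self e))
    have he0 : e = 0 := he.eq_zero_of_isNilpotent hen
    rw [hJe, he0, Ideal.span_singleton_eq_bot]
  haveI : Algebra.IsEpi C B := (Algebra.isEpi_iff_forall_one_tmul_eq C B).2 fun b => by
    have : (1 : B) ⊗ₜ[C] b - b ⊗ₜ[C] 1 ∈ KaehlerDifferential.ideal C B := by
      rw [← KaehlerDifferential.span_range_eq_ideal]
      exact Ideal.subset_span ⟨b, rfl⟩
    rw [hJ, Ideal.mem_bot, sub_eq_zero] at this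
    exact this
  haveI : Algebra.IsIntegral C B := ⟨fun b => by
    obtain ⟨c, hc⟩ := hr b
    exact ⟨Polynomial.X ^ p - Polynomial.C c, Polynomial.monic_X_pow_sub_C c hp0, by
      rw [Polynomial.eval₂_sub, Polynomial.eval₂_X_pow, Polynomial.eval₂_C, hc, sub_self]⟩⟩
  haveI : Module.Finite C B := Algebra.IsIntegral.finite
  have hsurj : Function.Surjective (algebraMap C B) :=
    Algebra.isEpi_iff_surjective_algebraMap_of_finite.1 ‹_›
  refine ⟨?_, hsurj⟩
  have hid : IsIdempotentElem (RingHom.ker (algebraMap C B)) :=
    (Algebra.FormallyEtale.iff_of_surjective hsurj).1 inferInstance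
  have hfg : (RingHom.ker (algebraMap C B)).FG :=
    Algebra.FinitePresentation.ker_fG_of_surjective (Algebra.ofId C B) hsurj
  obtain ⟨e, he, hJe⟩ := (Ideal.isIdempotentElem_iff_of_fg _ hfg).1 hid
  have he0 : e = 0 := he.eq_zero_of_isNilpotent
    ⟨p, hk e (RingHom.mem_ker.1 (hJe ▸ Ideal.mem_span_singleton_self e))⟩
  rw [RingHom.injective_iff_ker_eq_bot, hJe, he0, Ideal.span_singleton_eq_bot]

theorem pow_eq_zero_of_relFrob_eq_zero (x : BaseChange p A B) (hx : relFrob p A B x = 0) :
    x ^ p = 0 := by
  have key : ∀ x : BaseChange p A B, (relFrob p A B x) ⊗ₜ[A] (1 : Twist p A) = x ^ p := by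
    intro x
    induction x using TensorProduct.induction_on with
    | zero => rw [map_zero, TensorProduct.zero_tmul, zero_pow (Fact.out : p.Prime).ne_zero]
    | tmul b t =>
      rw [relFrob_tmul, mul_comm, ← Algebra.smul_def, TensorProduct.smul_tmul, Algebra.smul_def, mul_one,
        algebraMap_twist, Algebra.TensorProduct.tmul_pow, map_pow, RingEquiv.apply_symm_apply]
    | add x y hx hy =>
      obtain ⟨r, hr⟩ := exists_add_pow_prime_eq (Fact.out : p.Prime) x y
      have hp0 : (p : BaseChange p A B) = 0 := by
        rw [← map_natCast (algebraMap A (BaseChange p A B)), CharP.cast_eq_zero, map_zero]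
      rw [map_add, TensorProduct.add_tmul, hx, hy, hr, hp0, zero_mul, zero_mul, zero_mul, add_zero]
  rw [← key, hx, TensorProduct.zero_tmul]

theorem etale_comp {R : Type u} {S : Type v} {T : Type w} [CommRing R] [CommRing S] [CommRing T]
    {f : R →+* S} {g : S →+* T} (hf : f.Etale) (hg : g.Etale) : (g.comp f).Etale := by
  algebraize [f, g, g.comp f]
  exact RingHom.etale_algebraMap.2 (Algebra.Etale.comp R S T)

theorem bijective_relFrob_of_etale [Algebra.Etale A B] :
    Function.Bijective (relFrob p A B) := by
  letI algTT : Algebra (Twist p A) (Target p A B) := (inclHom p A B).toRingHom.toAlgebra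
  haveI : Algebra.Etale (Twist p A) (Target p A B) := by
    rw [← RingHom.etale_algebraMap]
    exact etale_comp
      (etale_comp
        (RingHom.Etale.of_bijective (f := ((toTwist p A).symm : Twist p A →+* A))
          (toTwist p A).symm.bijective) (RingHom.etale_algebraMap.2 ‹Algebra.Etale A B›))
      (RingHom.Etale.of_bijective (f := (toTarget p A B : B →+* Target p A B))
        (toTarget p A B).bijective)
  haveI : Algebra.Etale (Twist p A) (BaseChange p A B) :=
    Algebra.Etale.of_equiv (Algebra.TensorProduct.commRight A (Twist p A) B)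
  haveI : CharP (Target p A B) p := inferInstanceAs (CharP B p)
  let L : BaseChange p A B →ₐ[A] Target p A B :=
    Algebra.TensorProduct.lift (frobHom p A B) (inclHom p A B) (fun _ _ => Commute.all _ _)
  letI algCB : Algebra (BaseChange p A B) (Target p A B) := L.toRingHom.toAlgebra
  haveI : IsScalarTower (Twist p A) (BaseChange p A B) (Target p A B) :=
    IsScalarTower.of_algebraMap_eq' <| RingHom.ext fun x => by
      change inclHom p A B x = L ((1 : B) ⊗ₜ[A] x)
      simp [L, Algebra.TensorProduct.lift_tmul]
  haveI : Algebra.FormallyEtale (BaseChange p A B) (Target p A B) :=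
    Algebra.FormallyEtale.of_restrictScalars (R := Twist p A)
  haveI : Algebra.FinitePresentation (BaseChange p A B) (Target p A B) :=
    Algebra.FinitePresentation.of_restrict_scalars_finitePresentation (Twist p A) _ _
  haveI : Algebra.Etale (BaseChange p A B) (Target p A B) := ⟨inferInstance, inferInstance⟩
  exact ((toTarget p A B).symm.bijective.comp (bijective_of_etale_radicial
    (C := BaseChange p A B) (B := Target p A B) p
    (fun b => ⟨(toTarget p A B).symm b ⊗ₜ[A] (1 : Twist p A),
      (toTarget p A B).symm.injective (by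
        calc (toTarget p A B).symm (algebraMap (BaseChange p A B) (Target p A B) _)
            = relFrob p A B ((toTarget p A B).symm b ⊗ₜ[A] (1 : Twist p A)) := rfl
          _ = _ := by rw [relFrob_tmul, map_one, map_one, mul_one, map_pow])⟩)
    (fun x hx => pow_eq_zero_of_relFrob_eq_zero p A B x
      (show (toTarget p A B).symm (algebraMap (BaseChange p A B) (Target p A B) x) = 0 by
        rw [hx, map_zero]))) :)

end Groth.Agent.FrobAlg53
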