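import Mathlib
import Groth.Prelude.Def_W4c1liftfrobW2

set_option linter.unusedSectionVars false

universe u v

namespace Groth.Agent.FrobAlg53

open FrobAlg
open scoped TensorProduct

variable {p : ℕ} [Fact p.Prime] {k : Type u} [Field k] [CharP k p] [PerfectRing k p]

local notation "W₂" => FrobAlg.W2 p k

theorem p_mul_truncate (X : WittVector p k) (i : Fin 2) :
    ((p : W₂) * WittVector.truncate 2 X).coeff i = if i = 0 then 0 else X.coeff 0 ^ p := by
  rw [← map_natCast (WittVector.truncate (p := p) (R := k) 2), ← map_mul, WittVector.coeff_truncate, mul_comm]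
  fin_cases i
  · simp [WittVector.mul_charP_coeff_zero]
  · simp [WittVector.mul_charP_coeff_succ X 0]

theorem p_mul_eq_zero_iff (x : W₂) : (p : W₂) * x = 0 ↔ res p k x = 0 := by
  obtain ⟨X, rfl⟩ := WittVector.truncate_surjective p 2 k x
  rw [res_truncate]
  constructor
  · intro h
    have h1 := p_mul_truncate X 1
    rw [h, TruncatedWittVector.coeff_zero, if_neg (by decide)] at h1
    exact pow_eq_zero_iff (Fact.out : p.Prime).ne_zero |>.1 h1.symm
  · intro h
    refine TruncatedWittVector.ext fun i => ?_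
    rw [p_mul_truncate, h, TruncatedWittVector.coeff_zero, zero_pow (Fact.out : p.Prime).ne_zero, ite_self]

theorem res_eq_zero_iff (x : W₂) : res p k x = 0 ↔ ∃ y : W₂, x = (p : W₂) * y := by
  constructor
  · intro h
    obtain ⟨X, rfl⟩ := WittVector.truncate_surjective p 2 k x
    rw [res_truncate] at h
    obtain ⟨r, hr⟩ : ∃ r : k, r ^ p = X.coeff 1 :=
      ⟨(frobeniusEquiv k p).symm (X.coeff 1), frobenius_apply_frobeniusEquiv_symm k p _⟩
    refine ⟨WittVector.truncate 2 (WittVector.teichmuller p r), TruncatedWittVector.ext fun i => ?_⟩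
    rw [p_mul_truncate, WittVector.coeff_truncate, WittVector.teichmuller_coeff_zero]
    fin_cases i
    · simpa using h
    · simpa using hr.symm
  · rintro ⟨y, rfl⟩
    rw [map_mul, map_natCast, CharP.cast_eq_zero, zero_mul]

theorem p_sq : (p : W₂) * (p : W₂) = 0 := by
  rw [p_mul_eq_zero_iff, map_natCast, CharP.cast_eq_zero]

theorem p_ne_zero : (p : W₂) ≠ 0 := by
  intro h
  have := (p_mul_eq_zero_iff (1 : W₂)).1 (by rw [h, zero_mul])
  rw [map_one] at this
  exact one_ne_zero this

theorem exists_of_p_mul_eq_zero {x : W₂} (h : (p : W₂) * x = 0) : ∃ y : W₂, x = (p : W₂) * y :=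
  (res_eq_zero_iff x).1 ((p_mul_eq_zero_iff x).1 h)

theorem res_surjective : Function.Surjective (res p k) := fun a =>
  ⟨WittVector.truncate 2 (WittVector.teichmuller p a), by rw [res_truncate, WittVector.teichmuller_coeff_zero]⟩

theorem ker_res : RingHom.ker (res p k) = Ideal.span {(p : W₂)} := by
  ext x
  rw [RingHom.mem_ker, res_eq_zero_iff, Ideal.mem_span_singleton]
  rfl

theorem isUnit_of_res_ne_zero {x : W₂} (h : res p k x ≠ 0) : IsUnit x := by
  obtain ⟨y, hy⟩ := res_surjective (p := p) (res p k x)⁻¹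
  obtain ⟨z, hz⟩ := (res_eq_zero_iff (x * y - 1)).1 (by
    rw [map_sub, map_mul, hy, mul_inv_cancel₀ h, map_one, sub_self])
  refine IsUnit.of_mul_eq_one (y * (1 - p * z)) ?_
  have : x * y = 1 + p * z := by rw [← hz]; ring
  calc x * (y * (1 - (p : W₂) * z)) = (x * y) * (1 - p * z) := by ring
    _ = 1 := by rw [this]; linear_combination -(z * z) * p_sq (p := p) (k := k)

theorem ideal_cases (I : Ideal W₂) : I = ⊥ ∨ I = Ideal.span {(p : W₂)} ∨ I = ⊤ := by
  by_cases h : ∀ x ∈ I, res p k x = 0
  · by_cases h0 : I = ⊥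
    · exact Or.inl h0
    · right; left
      refine le_antisymm (fun x hx => ?_) ?_
      · rw [← ker_res]; exact h x hx
      · obtain ⟨x, hx, hx0⟩ := Submodule.exists_mem_ne_zero_of_ne_bot h0
        obtain ⟨y, rfl⟩ := (res_eq_zero_iff x).1 (h x hx)
        have hy : IsUnit y := isUnit_of_res_ne_zero fun hy => hx0 ((p_mul_eq_zero_iff y).2 hy)
        rw [Ideal.span_le, Set.singleton_subset_iff, SetLike.mem_coe]
        exact (Ideal.mul_unit_mem_iff_mem I hy).1 hx
  · push Not at h
    obtain ⟨x, hx, hx0⟩ := h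
    exact Or.inr (Or.inr (Ideal.eq_top_of_isUnit_mem _ hx (isUnit_of_res_ne_zero hx0)))

/-- Flatness over the Witt vectors of length two. -/
theorem flat_iff (M : Type v) [AddCommGroup M] [Module W₂ M] :
    Module.Flat W₂ M ↔ ∀ m : M, (p : W₂) • m = 0 → ∃ m' : M, m = (p : W₂) • m' := by
  constructor
  · intro _ m hm
    set f : W₂ →ₗ[W₂] W₂ := LinearMap.mulLeft W₂ (p : W₂)
    have hex : Function.Exact f f := by
      intro x
      simp only [f, LinearMap.mulLeft_apply, Set.mem_range]
      constructor
      · intro h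
        obtain ⟨y, hy⟩ := exists_of_p_mul_eq_zero h
        exact ⟨y, hy.symm⟩
      · rintro ⟨y, rfl⟩; rw [← mul_assoc, p_sq, zero_mul]
    have h1 := Module.Flat.lTensor_exact M hex (m ⊗ₜ[W₂] (1 : W₂))
    have hmap : ∀ z, TensorProduct.rid W₂ M (f.lTensor M z) = (p : W₂) • TensorProduct.rid W₂ M z := by
      intro z
      induction z using TensorProduct.induction_on with
      | zero => simp
      | tmul a b => simp [f, mul_smul]
      | add a b ha hb => simp only [map_add, ha, hb, smul_add]
    obtain ⟨w, hw⟩ := h1.1 ((TensorProduct.rid W₂ M).injective (by rw [hmap, map_zero]; simpa using hm))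
    exact ⟨TensorProduct.rid W₂ M w, by rw [← hmap, hw]; simp⟩
  · intro h
    rw [Module.Flat.iff_lTensor_injective']
    intro I
    rcases ideal_cases I with rfl | rfl | rfl
    · exact Function.injective_of_subsingleton _
    · let g : ↥(Ideal.span {(p : W₂)}) := ⟨(p : W₂), Ideal.mem_span_singleton_self _⟩
      have hgen : ∀ z : M ⊗[W₂] ↥(Ideal.span {(p : W₂)}), ∃ m : M, z = m ⊗ₜ g := by
        intro z
        induction z using TensorProduct.induction_on with
        | zero => exact ⟨0, by simp⟩
        | tmul a b =>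
          obtain ⟨c, hc⟩ := Ideal.mem_span_singleton'.1 b.2
          refine ⟨c • a, ?_⟩
          rw [TensorProduct.smul_tmul]
          congr 1
          exact Subtype.ext hc.symm
        | add a b ha hb =>
          obtain ⟨x, rfl⟩ := ha
          obtain ⟨y, rfl⟩ := hb
          exact ⟨x + y, by rw [TensorProduct.add_tmul]⟩
      rw [injective_iff_map_eq_zero]
      intro z hz
      obtain ⟨m, rfl⟩ := hgen z
      have hm := congrArg (TensorProduct.rid W₂ M) hz
      simp only [LinearMap.lTensor_tmul, map_zero, TensorProduct.rid_tmul, Submodule.subtype_apply] at hm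
      obtain ⟨m', rfl⟩ := h m hm
      rw [TensorProduct.smul_tmul]
      have hg : (p : W₂) • g = 0 := Subtype.ext p_sq
      rw [hg, TensorProduct.tmul_zero]
    · intro a b hab
      exact (LinearEquiv.lTensor M (LinearEquiv.ofTop (⊤ : Ideal W₂) rfl)).injective hab

end Groth.Agent.FrobAlg53
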