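import Mathlib
import Groth.Prelude.Def_W4c1liftfrobW2
import Groth.Agent.FrobAlg53.W2Basic

set_option linter.unusedSectionVars false

universe u v w

namespace Groth.Agent.FrobAlg53

open FrobAlg

variable {p : ℕ} [Fact p.Prime] {k : Type u} [Field k] [CharP k p] [PerfectRing k p]
variable {A : Type v} [CommRing A] [Algebra k A]

theorem map_ker_res {B : Type w} [CommRing B] (ι : W2 p k →+* B) :
    Ideal.map ι (RingHom.ker (res p k)) = Ideal.span {(p : B)} := by
  rw [ker_res, Ideal.map_span, Set.image_singleton, map_natCast]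

theorem p_eq_zero_of_algebra (p : ℕ) [Fact p.Prime] {k : Type u} [Field k] [CharP k p]
    (A : Type v) [CommRing A] [Algebra k A] : (p : A) = 0 := by
  rw [← map_natCast (algebraMap k A), CharP.cast_eq_zero, map_zero]

theorem flat_of_torsion {B : Type w} [CommRing B] (ι : W2 p k →+* B)
    (h : ∀ x : B, (p : B) * x = 0 → ∃ y, x = (p : B) * y) : ι.Flat := by
  let := ι.toAlgebra
  show Module.Flat (W2 p k) B
  have hs : ∀ b : B, (p : W2 p k) • b = (p : B) * b := fun b => by
    rw [Algebra.smul_def, map_natCast]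
  rw [flat_iff]
  intro m hm
  obtain ⟨y, hy⟩ := h m (by rw [← hs, hm])
  exact ⟨y, by rw [hs, hy]⟩

theorem torsion_of_flat {B : Type w} [CommRing B] (ι : W2 p k →+* B) (hf : ι.Flat) (x : B)
    (hx : (p : B) * x = 0) : ∃ y, x = (p : B) * y := by
  let := ι.toAlgebra
  have hs : ∀ b : B, (p : W2 p k) • b = (p : B) * b := fun b => by
    rw [Algebra.smul_def, map_natCast]
  have hf' : Module.Flat (W2 p k) B := hf
  obtain ⟨y, hy⟩ := (flat_iff B).1 hf' x (by rw [hs, hx])
  exact ⟨y, by rw [← hs, hy]⟩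

theorem p_sq_of_hom {B : Type w} [CommRing B] (ι : W2 p k →+* B) : (p : B) * (p : B) = 0 := by
  have h := congrArg ι (p_sq (p := p) (k := k))
  simpa using h

section
variable {B : Type v} [CommRing B] {ι : W2 p k →+* B} {π : B →+* A}

theorem lift_ker (hB : IsLift p k A B ι π) (x : B) : π x = 0 ↔ ∃ y, x = (p : B) * y := by
  rw [← RingHom.mem_ker, hB.ker_eq, map_ker_res, Ideal.mem_span_singleton]
  rfl

theorem lift_pi_p (hB : IsLift p k A B ι π) : π (p : B) = 0 :=
  (lift_ker hB _).2 ⟨1, (mul_one _).symm⟩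

theorem lift_mul_p_eq_iff (hB : IsLift p k A B ι π) (x y : B) :
    (p : B) * x = (p : B) * y ↔ π x = π y := by
  rw [← sub_eq_zero, ← mul_sub, ← sub_eq_zero (a := π x), ← map_sub, lift_ker hB]
  refine ⟨torsion_of_flat ι hB.flat _, ?_⟩
  rintro ⟨z, hz⟩
  rw [hz, ← mul_assoc, p_sq_of_hom ι, zero_mul]

theorem isLift_mk (h : ∀ x : B, (p : B) * x = 0 → ∃ y, x = (p : B) * y)
    (hs : Function.Surjective π) (hk : ∀ x : B, π x = 0 → ∃ y, x = (p : B) * y)
    (hc : π.comp ι = (algebraMap k A).comp (res p k)) : IsLift p k A B ι π where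
  flat := flat_of_torsion ι h
  surj := hs
  ker_eq := by
    rw [map_ker_res]
    ext x
    rw [RingHom.mem_ker, Ideal.mem_span_singleton]
    refine ⟨fun hx => (hk x hx).imp fun y hy => hy, ?_⟩
    rintro ⟨y, rfl⟩
    rw [map_mul, map_natCast, p_eq_zero_of_algebra p (k := k) A, zero_mul]
  comm := hc

/-- A morphism of flat liftings of the same algebra is bijective. -/
theorem bijective_of_isLift {B' : Type v} [CommRing B'] {ι' : W2 p k →+* B'} {π' : B' →+* A}
    (hB : IsLift p k A B ι π) (hB' : IsLift p k A B' ι' π') (f : B →+* B') (hf : π'.comp f = π) :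
    Function.Bijective f := by
  have hf' : ∀ x, π' (f x) = π x := fun x => RingHom.congr_fun hf x
  constructor
  · rw [injective_iff_map_eq_zero]
    intro x hx
    obtain ⟨y, rfl⟩ := (lift_ker hB x).1 (by rw [← hf', hx, map_zero])
    rw [map_mul, map_natCast] at hx
    obtain ⟨w, rfl⟩ := (lift_ker hB y).1 (by
      rw [← hf']
      exact ((lift_mul_p_eq_iff hB' _ 0).1 (by rw [hx, mul_zero])).trans (map_zero _))
    rw [← mul_assoc, p_sq_of_hom ι, zero_mul]
  · intro z
    obtain ⟨x, hx⟩ := hB.surj (π' z)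
    obtain ⟨w, hw⟩ := (lift_ker hB' (z - f x)).1 (by rw [map_sub, hf', hx, sub_self])
    obtain ⟨y, hy⟩ := hB.surj (π' w)
    refine ⟨x + (p : B) * y, ?_⟩
    rw [map_add, map_mul, map_natCast, (lift_mul_p_eq_iff hB' (f y) w).2 (by rw [hf', hy]), ← hw,
      add_sub_cancel]

end

end Groth.Agent.FrobAlg53
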