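import Mathlib
import Groth.Prelude.Def_W4c1liftfrobW2
import Groth.Agent.FrobAlg53.Lift

set_option linter.unusedSectionVars false
set_option linter.style.haveILetI false

universe u

namespace Groth.Agent.FrobAlg53

open FrobAlg
open scoped TensorProduct

variable {p : ℕ} [Fact p.Prime] {k : Type u} [Field k] [CharP k p] [PerfectRing k p]
variable {A B : Type u} [CommRing A] [CommRing B] [Algebra k A] [Algebra k B] [Algebra A B]
  [IsScalarTower k A B]

instance isNoetherianRing_W2 : IsNoetherianRing (W2 p k) :=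
  isNoetherianRing_of_surjective _ _ _ (WittVector.truncate_surjective p 2 k)

/-- Solvability of a finite linear system descends along a faithfully flat map. -/
theorem system_descends [Module.FaithfullyFlat A B] {m l : ℕ} (L : Fin l → Fin m → A) (o : Fin l → A)
    (g : Fin m → B) (hg : ∀ i, ∑ j, algebraMap A B (L i j) * g j = algebraMap A B (o i)) :
    ∃ g : Fin m → A, ∀ i, ∑ j, L i j * g j = o i := by
  classical
  let T : (Fin m → A) →ₗ[A] (Fin l → A) := Matrix.mulVecLin (Matrix.of L)
  set q := (LinearMap.range T).mkQ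
  suffices h : (1 : B) ⊗ₜ[A] q o = 0 by
    have h0 : q o = 0 :=
      Module.FaithfullyFlat.tensorProduct_mk_injective (A := A) (B := B) _ (h.trans (map_zero _).symm)
    obtain ⟨x, hx⟩ := (Submodule.Quotient.mk_eq_zero _).1 h0
    exact ⟨x, fun i => congrFun hx i⟩
  have ho : q o = ∑ i, o i • q (Pi.single i 1) := by
    conv_lhs => rw [pi_eq_sum_univ' o]
    simp only [map_sum, map_smul]
  have hz : ∀ j, ∑ i, L i j • q (Pi.single i 1) = 0 := by
    intro j
    simp only [← map_smul, ← map_sum]
    refine (Submodule.Quotient.mk_eq_zero _).2 ⟨Pi.single j 1, funext fun i => ?_⟩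
    simp [T, Finset.sum_apply, Pi.single_apply]
  calc (1 : B) ⊗ₜ[A] q o = ∑ i, algebraMap A B (o i) ⊗ₜ[A] q (Pi.single i 1) := by
        rw [ho, TensorProduct.tmul_sum]
        refine Finset.sum_congr rfl fun i _ => ?_
        rw [← TensorProduct.smul_tmul, Algebra.smul_def, mul_one]
    _ = ∑ i, ∑ j, g j ⊗ₜ[A] (L i j • q (Pi.single i 1)) := by
        refine Finset.sum_congr rfl fun i _ => ?_
        rw [← hg i, TensorProduct.sum_tmul]
        refine Finset.sum_congr rfl fun j _ => ?_
        rw [← Algebra.smul_def, TensorProduct.smul_tmul]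
    _ = 0 := by
        rw [Finset.sum_comm]
        refine Finset.sum_eq_zero fun j _ => ?_
        rw [← TensorProduct.tmul_sum, hz, TensorProduct.tmul_zero]

/-- Liftability descends from a faithfully flat algebra, given a smooth model. -/
theorem isW2Liftable_of_model [Module.FaithfullyFlat A B] {P : Type u} [CommRing P] [IsNoetherianRing P]
    {ι : W2 p k →+* P} {π : P →+* A} (hπ : Function.Surjective π)
    (htor : ∀ x : P, (p : P) * x = 0 → ∃ y, x = (p : P) * y)
    (hc : π.comp ι = (algebraMap k A).comp (res p k))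
    {B' : Type u} [CommRing B'] {ιB : W2 p k →+* B'} {πB : B' →+* B} (hB : IsLift p k B B' ιB πB)
    (Φ : P →+* B') (hΦ : πB.comp Φ = (algebraMap A B).comp π) : IsW2Liftable p k A := by
  classical
  have hpA : (p : A) = 0 := p_eq_zero_of_algebra p (k := k) A
  have hπp : ∀ y, π ((p : P) * y) = 0 := fun y => by rw [map_mul, map_natCast, hpA, zero_mul]
  have hunique : ∀ h h' : P, (p : P) * h = (p : P) * h' → π h = π h' := by
    intro h h' e
    obtain ⟨y, hy⟩ := htor (h - h') (by rw [mul_sub, e, sub_self])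
    rw [← sub_eq_zero, ← map_sub, hy, hπp]
  obtain ⟨m, f, hf⟩ := Submodule.fg_iff_exists_fin_generating_family.1 (IsNoetherian.noetherian (RingHom.ker π))
  let comb : (Fin m → P) →ₗ[P] P := Fintype.linearCombination P f
  let S : Submodule P (Fin m → P) := Submodule.comap comb (Ideal.span {(p : P)})
  obtain ⟨l, s, hs⟩ := Submodule.fg_iff_exists_fin_generating_family.1 (IsNoetherian.noetherian S)
  have hsS : ∀ i, ∃ h : P, comb (s i) = (p : P) * h := fun i => by
    have : s i ∈ S := hs ▸ Submodule.subset_span ⟨i, rfl⟩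
    exact Ideal.mem_span_singleton.1 this
  choose h hh using hsS
  have hfk : ∀ j, π (f j) = 0 := fun j => RingHom.mem_ker.1 (hf ▸ Submodule.subset_span ⟨j, rfl⟩)
  have hΦf : ∀ j, ∃ g : B', Φ (f j) = (p : B') * g := fun j => (lift_ker hB _).1 (by
    rw [show πB (Φ (f j)) = algebraMap A B (π (f j)) from RingHom.congr_fun hΦ _, hfk, map_zero])
  choose g hg using hΦf
  obtain ⟨gA, hgA⟩ := system_descends (B := B) (fun i j => π (s i j)) (fun i => π (h i))
    (fun j => πB (g j)) (fun i => by
      have e1 : (p : B') * ∑ j, Φ (s i j) * g j = (p : B') * Φ (h i) := by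
        rw [← map_natCast Φ p, ← map_mul, ← hh i, Finset.mul_sum]
        show _ = Φ (Fintype.linearCombination P f (s i))
        rw [Fintype.linearCombination_apply, map_sum]
        refine Finset.sum_congr rfl fun j _ => ?_
        rw [smul_eq_mul, map_mul, hg, map_natCast, mul_left_comm]
      have e2 := (lift_mul_p_eq_iff hB _ _).1 e1
      have e3 : ∀ y, πB (Φ y) = algebraMap A B (π y) := fun y => RingHom.congr_fun hΦ y
      simpa [map_sum, e3] using e2)
  choose G hG using fun j => hπ (gA j)
  let T : Submodule P (Fin m → P) :=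
    { carrier := {t | ∃ d : P, comb t = (p : P) * d ∧ π d = ∑ j, π (t j) * gA j}
      add_mem' := by
        rintro a b ⟨d, hd, hd'⟩ ⟨e, he, he'⟩
        exact ⟨d + e, by rw [map_add, hd, he, mul_add],
          by simp [hd', he', add_mul, Finset.sum_add_distrib]⟩
      zero_mem' := ⟨0, by simp, by simp⟩
      smul_mem' := by
        rintro c a ⟨d, hd, hd'⟩
        refine ⟨c * d, by rw [map_smul, hd, smul_eq_mul, mul_left_comm], ?_⟩
        simp only [map_mul, hd', Finset.mul_sum, Pi.smul_apply, smul_eq_mul, mul_assoc] }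
  have hST : ∀ t ∈ S, t ∈ T := by
    intro t ht
    rw [← hs] at ht
    exact Submodule.span_le.2 (by rintro _ ⟨i, rfl⟩; exact ⟨h i, hh i, (hgA i).symm⟩) ht
  let f' : Fin m → P := fun j => f j - (p : P) * G j
  let J : Ideal P := Submodule.span P (Set.range f')
  have hJker : ∀ x ∈ J, π x = 0 := by
    intro x hx
    refine RingHom.mem_ker.1 (Submodule.span_le.2 ?_ hx)
    rintro _ ⟨j, rfl⟩
    show π (f j - _) = 0
    rw [map_sub, hfk, hπp, sub_zero]
  let mk := Ideal.Quotient.mk J
  have hker : ∀ x, π x = 0 → ∃ y, mk x = (p : P ⧸ J) * y := by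
    intro x hx
    have hx' : x ∈ Submodule.span P (Set.range f) := by rw [hf]; exact RingHom.mem_ker.2 hx
    obtain ⟨c, rfl⟩ := (Submodule.mem_span_range_iff_exists_fun P).1 hx'
    refine ⟨mk (∑ j, c j * G j), ?_⟩
    rw [← map_natCast mk, ← map_mul, Ideal.Quotient.eq, Finset.mul_sum, ← Finset.sum_sub_distrib]
    refine Submodule.sum_mem _ fun j _ => ?_
    rw [smul_eq_mul, show c j * f j - (p : P) * (c j * G j) = c j • f' j by simp [f']; ring]
    exact Submodule.smul_mem _ _ (Submodule.subset_span ⟨j, rfl⟩)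
  refine ⟨P ⧸ J, inferInstance, mk.comp ι, Ideal.Quotient.lift J π hJker, isLift_mk ?_ ?_ ?_ ?_⟩
  · intro q hq
    obtain ⟨x, rfl⟩ := Ideal.Quotient.mk_surjective q
    rw [← map_natCast mk, ← map_mul, Ideal.Quotient.eq_zero_iff_mem] at hq
    obtain ⟨c, hc'⟩ := (Submodule.mem_span_range_iff_exists_fun P).1 hq
    have hcomb : comb c = (p : P) * (x + ∑ j, c j * G j) := by
      show Fintype.linearCombination P f c = _
      rw [Fintype.linearCombination_apply, mul_add, ← hc', Finset.mul_sum, ← Finset.sum_add_distrib]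
      refine Finset.sum_congr rfl fun j _ => ?_
      simp only [f', smul_eq_mul]; ring
    obtain ⟨d, hd, hd'⟩ := hST c (Ideal.mem_span_singleton.2 ⟨_, hcomb⟩)
    have hx0 := hunique d (x + ∑ j, c j * G j) (hd.symm.trans hcomb)
    rw [hd', map_add, map_sum] at hx0
    simp only [map_mul, hG] at hx0
    exact hker x (by linear_combination -hx0)
  · exact Ideal.Quotient.lift_surjective_of_surjective _ _ hπ
  · intro q hq
    obtain ⟨x, rfl⟩ := Ideal.Quotient.mk_surjective q
    exact hker x hq
  · exact hc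

/-- A smooth model of an algebra essentially of finite type. -/
theorem isW2Liftable_of_faithfullyFlat [Algebra.EssFiniteType k A] [Module.FaithfullyFlat A B]
    (hB : IsW2Liftable p k B) : IsW2Liftable p k A := by
  classical
  obtain ⟨B', _, ιB, πB, hB⟩ := hB
  obtain ⟨s, hs⟩ := Algebra.EssFiniteType.cond (R := k) (S := A)
  let π0 : MvPolynomial s (W2 p k) →+* A :=
    MvPolynomial.eval₂Hom ((algebraMap k A).comp (res p k)) (fun i => (i : A))
  have hrange : ∀ a ∈ Algebra.adjoin k (s : Set A), a ∈ π0.range := by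
    intro a ha
    induction ha using Algebra.adjoin_induction with
    | mem x hx => exact ⟨MvPolynomial.X ⟨x, hx⟩, by simp [π0]⟩
    | algebraMap c =>
      obtain ⟨w, rfl⟩ := res_surjective (p := p) c
      exact ⟨MvPolynomial.C w, by simp [π0]⟩
    | add x y _ _ hx hy => exact add_mem hx hy
    | mul x y _ _ hx hy => exact mul_mem hx hy
  let M : Submonoid (MvPolynomial s (W2 p k)) := (IsUnit.submonoid A).comap π0
  let P := Localization M
  haveI : IsNoetherianRing P := IsLocalization.isNoetherianRing M P inferInstance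
  have hM : ∀ y : M, IsUnit (π0 y) := fun y => y.2
  obtain ⟨π, hπ0⟩ : ∃ π : P →+* A, ∀ x, π (algebraMap (MvPolynomial s (W2 p k)) P x) = π0 x :=
    ⟨IsLocalization.lift hM, IsLocalization.lift_eq hM⟩
  have hπ : Function.Surjective π := by
    intro a
    obtain ⟨⟨x, y⟩, hxy⟩ := IsLocalization.surj
      ((IsUnit.submonoid A).comap (algebraMap (Algebra.adjoin k (s : Set A)) A)) a
    obtain ⟨x', hx'⟩ := hrange x x.2
    obtain ⟨y', hy'⟩ := hrange y.1 y.1.2
    have hyM : y' ∈ M := show IsUnit (π0 y') from hy' ▸ y.2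
    refine ⟨IsLocalization.mk' P x' ⟨y', hyM⟩, ?_⟩
    have he := congrArg π (IsLocalization.mk'_spec P x' (⟨y', hyM⟩ : M))
    rw [map_mul, hπ0, hπ0] at he
    apply (hM ⟨y', hyM⟩).mul_right_cancel
    rw [he, mul_comm a]
    show π0 x' = π0 y' * a
    rw [hx', hy', mul_comm]
    exact hxy.symm
  have htor : ∀ x : P, (p : P) * x = 0 → ∃ y, x = (p : P) * y := by
    intro x hx
    obtain ⟨a, m, rfl⟩ := IsLocalization.exists_mk'_eq M x
    rw [← map_natCast (algebraMap (MvPolynomial s (W2 p k)) P), IsLocalization.mul_mk'_eq_mk'_of_mul,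
      IsLocalization.mk'_eq_zero_iff] at hx
    obtain ⟨c, hc⟩ := hx
    obtain ⟨b, hb⟩ : (MvPolynomial.C (p : W2 p k)) ∣ (c : MvPolynomial s (W2 p k)) * a := by
      rw [MvPolynomial.C_dvd_iff_dvd_coeff]
      intro n
      obtain ⟨w, hw⟩ := exists_of_p_mul_eq_zero (x := MvPolynomial.coeff n ((c : MvPolynomial s (W2 p k)) * a)) (by
        rw [← MvPolynomial.coeff_C_mul, map_natCast, mul_left_comm, hc, MvPolynomial.coeff_zero])
      exact ⟨w, hw⟩
    refine ⟨IsLocalization.mk' P b (c * m), ?_⟩
    rw [← map_natCast (algebraMap (MvPolynomial s (W2 p k)) P), IsLocalization.mul_mk'_eq_mk'_of_mul]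
    apply IsLocalization.mk'_eq_iff_eq.2
    rw [map_natCast] at hb
    congr 1
    rw [Submonoid.coe_mul, ← hb]
    ring
  have hc : π.comp ((algebraMap (MvPolynomial s (W2 p k)) P).comp MvPolynomial.C) = (algebraMap k A).comp (res p k) := by
    refine RingHom.ext fun w => ?_
    rw [RingHom.comp_apply, RingHom.comp_apply, hπ0]
    exact MvPolynomial.eval₂Hom_C _ _ w
  choose v hv using fun i : s => hB.surj (algebraMap A B (i : A))
  let Φ0 : MvPolynomial s (W2 p k) →+* B' := MvPolynomial.eval₂Hom ιB v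
  have hΦ0 : πB.comp Φ0 = (algebraMap A B).comp π0 := by
    refine MvPolynomial.ringHom_ext (fun w => ?_) (fun i => ?_)
    · show πB (Φ0 (MvPolynomial.C w)) = algebraMap A B (π0 (MvPolynomial.C w))
      simp only [Φ0, π0, MvPolynomial.eval₂Hom_C, RingHom.comp_apply]
      rw [show πB (ιB w) = algebraMap k B (res p k w) from RingHom.congr_fun hB.comm w,
        IsScalarTower.algebraMap_apply k A B]
    · simp only [Φ0, π0, RingHom.comp_apply, MvPolynomial.eval₂Hom_X', hv]
  have hunit : ∀ y : M, IsUnit (Φ0 y) := by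
    intro y
    obtain ⟨b, hb⟩ := ((hM y).map (algebraMap A B)).exists_right_inv
    obtain ⟨b', rfl⟩ := hB.surj b
    have h0 : πB (Φ0 y) = algebraMap A B (π0 y) := RingHom.congr_fun hΦ0 _
    obtain ⟨z, hz⟩ := (lift_ker hB (Φ0 y * b' - 1)).1 (by rw [map_sub, map_mul, map_one, h0, hb, sub_self])
    refine IsUnit.of_mul_eq_one (b' * (1 - (p : B') * z)) ?_
    linear_combination (1 - (p : B') * z) * hz - z * z * p_sq_of_hom ιB
  refine isW2Liftable_of_model hπ htor hc hB (IsLocalization.lift hunit) ?_
  refine IsLocalization.ringHom_ext M (RingHom.ext fun x => ?_)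
  show πB (IsLocalization.lift hunit (algebraMap _ P x)) = algebraMap A B (π (algebraMap _ P x))
  rw [IsLocalization.lift_eq, hπ0]
  exact RingHom.congr_fun hΦ0 x

end Groth.Agent.FrobAlg53
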