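import Mathlib

set_option linter.unusedSectionVars false

universe u v

namespace Groth.Agent.FrobAlg53

open MvPolynomial

/-- The axioms satisfied by `W₂(k)` with its Frobenius. -/
structure W2Data (p : ℕ) (k : Type u) [Field k] (W : Type u) [CommRing W] (res : W →+* k) (sig : W →+* W) : Prop where
  surj : Function.Surjective res
  ker : ∀ w, res w = 0 → ∃ v, w = (p : W) * v
  tor : ∀ w, (p : W) * w = 0 → res w = 0
  sq : (p : W) * (p : W) = 0
  semi : ∀ w, res (sig w) = res w ^ p

variable {p : ℕ} [Fact p.Prime] {k : Type u} [Field k] [CharP k p]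
variable {W : Type u} [CommRing W] {res : W →+* k} {sig : W →+* W} (D : W2Data p k W res sig)
variable {σ : Type v}

local notation "R'" => MvPolynomial σ W
local notation "red" => MvPolynomial.map (σ := σ) res

/-- The standard lift of Frobenius. -/
noncomputable def pFrob (sig : W →+* W) (p : ℕ) : MvPolynomial σ W →+* MvPolynomial σ W :=
  eval₂Hom (C.comp sig) fun i => X i ^ p

include D in
theorem map_res_eq_zero_iff (f : R') : red f = 0 ↔ ∃ g, f = (p : R') * g := by
  have hk : RingHom.ker res = Ideal.span {(p : W)} := by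
    ext w
    rw [RingHom.mem_ker, Ideal.mem_span_singleton]
    refine ⟨fun hw => D.ker w hw, ?_⟩
    rintro ⟨v, rfl⟩
    rw [map_mul, map_natCast, CharP.cast_eq_zero, zero_mul]
  rw [← RingHom.mem_ker, MvPolynomial.ker_map, hk, Ideal.map_span, Set.image_singleton, map_natCast,
    Ideal.mem_span_singleton]
  rfl

include D in
theorem p_mul_eq_zero_poly {f : R'} (h : (p : R') * f = 0) : ∃ g, f = (p : R') * g := by
  rw [← map_res_eq_zero_iff D]
  ext m
  rw [coeff_map, coeff_zero]
  refine D.tor _ ?_
  rw [← map_natCast (C : W →+* R')] at h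
  rw [← coeff_C_mul, h, coeff_zero]

include D in
theorem p_sq_poly : (p : R') * (p : R') = 0 := by
  have h := congrArg (C : W →+* R') D.sq
  rwa [map_mul, map_natCast, map_zero] at h

include D in
theorem p_mul_eq_of_red_eq {f g : R'} (h : red f = red g) : (p : R') * f = (p : R') * g := by
  obtain ⟨e, he⟩ := (map_res_eq_zero_iff D (f - g)).1 (by rw [map_sub, h, sub_self])
  rw [← sub_eq_zero, ← mul_sub, he, ← mul_assoc, p_sq_poly D, zero_mul]

/-- A lift of Frobenius with prescribed corrections. -/
noncomputable def tFrob (sig : W →+* W) (p : ℕ) (t : σ → MvPolynomial σ W) :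
    MvPolynomial σ W →+* MvPolynomial σ W :=
  eval₂Hom (C.comp sig) fun i => X i ^ p + (p : MvPolynomial σ W) * t i

theorem tFrob_zero : tFrob (σ := σ) sig p 0 = pFrob sig p := by
  simp only [tFrob, pFrob, Pi.zero_apply, mul_zero, add_zero]

include D in
theorem red_tFrob (t : σ → R') (f : R') : red (tFrob sig p t f) = red f ^ p := by
  induction f using MvPolynomial.induction_on with
  | C a => rw [tFrob, eval₂Hom_C, RingHom.comp_apply, map_C, map_C, D.semi, map_pow]
  | add a b ha hb => rw [map_add, map_add, ha, hb, map_add, add_pow_char]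
  | mul_X a i ha =>
    rw [map_mul, map_mul, ha, map_mul, mul_pow]
    congr 1
    rw [tFrob, eval₂Hom_X', map_X, map_add, map_pow, map_X, map_mul, map_natCast, CharP.cast_eq_zero,
      zero_mul, add_zero]

include D in
/-- Taylor expansion to first order. -/
theorem tFrob_eq [Fintype σ] (t : σ → R') (f : R') :
    tFrob sig p t f = pFrob sig p f + (p : R') * ∑ j, pderiv j f ^ p * t j := by
  classical
  have hpd : ∀ g : R', (p : R') * g ^ p = (p : R') * pFrob sig p g := fun g => by
    refine p_mul_eq_of_red_eq D ?_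
    rw [← tFrob_zero, red_tFrob D, map_pow]
  have hsum : ∀ g : R', (p : R') * ∑ j, pderiv j g ^ p * t j =
      (p : R') * ∑ j, pFrob sig p (pderiv j g) * t j := fun g => by
    simp only [Finset.mul_sum, ← mul_assoc, hpd]
  rw [hsum]
  induction f using MvPolynomial.induction_on with
  | C a => simp [tFrob, pFrob]
  | add a b ha hb => simp only [map_add, ha, hb, add_mul, Finset.sum_add_distrib]; ring
  | mul_X a i ha =>
    have h1 : ∀ j, pFrob sig p (pderiv j (a * X i)) * t j =
        pFrob sig p (pderiv j a) * t j * X i ^ p +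
          if j = i then pFrob sig p a * t i else 0 := by
      intro j
      rw [pderiv_mul, pderiv_X, map_add, map_mul, map_mul]
      rcases eq_or_ne j i with rfl | hji
      · simp [pFrob]; ring
      · simp [Pi.single_eq_of_ne' hji, hji, pFrob]; ring
    have hX : pFrob sig p (X i) = X i ^ p := eval₂Hom_X' _ _ i
    have hT : tFrob sig p t (X i) = X i ^ p + (p : R') * t i := eval₂Hom_X' _ _ i
    rw [map_mul, map_mul, ha, hX, hT, Finset.sum_congr rfl fun j _ => h1 j, Finset.sum_add_distrib,
      ← Finset.sum_mul, Finset.sum_ite_eq', if_pos (Finset.mem_univ i)]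
    linear_combination (t i * ∑ j, pFrob sig p (pderiv j a) * t j) * p_sq_poly (σ := σ) D

section Quot
variable (J : Ideal (MvPolynomial σ W))

include D in
theorem quot_pi_eq_zero_iff (b : MvPolynomial σ W ⧸ J) :
    Ideal.quotientMap (J.map (MvPolynomial.map res)) (MvPolynomial.map res) Ideal.le_comap_map b = 0 ↔
      ∃ b' : MvPolynomial σ W ⧸ J, b = (p : MvPolynomial σ W ⧸ J) * b' := by
  obtain ⟨f, rfl⟩ := Ideal.Quotient.mk_surjective b
  rw [Ideal.quotientMap_mk, Ideal.Quotient.eq_zero_iff_mem,
    Ideal.mem_map_iff_of_surjective _ (MvPolynomial.map_surjective _ D.surj)]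
  constructor
  · rintro ⟨g, hg, hgf⟩
    obtain ⟨e, he⟩ := (map_res_eq_zero_iff D (f - g)).1 (by rw [map_sub, hgf, sub_self])
    refine ⟨Ideal.Quotient.mk J e, ?_⟩
    rw [← map_natCast (Ideal.Quotient.mk J), ← map_mul, Ideal.Quotient.eq, ← he, sub_sub_cancel]
    exact hg
  · rintro ⟨b', hb'⟩
    obtain ⟨e, rfl⟩ := Ideal.Quotient.mk_surjective b'
    rw [← map_natCast (Ideal.Quotient.mk J), ← map_mul, Ideal.Quotient.eq] at hb'
    exact ⟨_, hb', by rw [map_sub, (map_res_eq_zero_iff D _).2 ⟨e, rfl⟩, sub_zero]⟩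

end Quot

include D in
/-- Existence of a Frobenius lift on a flat quotient, in terms of residues. -/
theorem frob_lift_iff [Fintype σ] {m : ℕ} (f' : Fin m → R')
    (htor : ∀ x : R' ⧸ Ideal.span (Set.range f'), (p : R' ⧸ Ideal.span (Set.range f')) * x = 0 →
      ∃ y, x = (p : R' ⧸ Ideal.span (Set.range f')) * y) :
    (∃ Φ : (R' ⧸ Ideal.span (Set.range f')) →+* (R' ⧸ Ideal.span (Set.range f')),
      Φ.comp ((Ideal.Quotient.mk _).comp C) = ((Ideal.Quotient.mk _).comp C).comp (sig) ∧
      ∀ b, Ideal.quotientMap ((Ideal.span (Set.range f')).map red) red Ideal.le_comap_map (Φ b) =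
        (Ideal.quotientMap ((Ideal.span (Set.range f')).map red) red Ideal.le_comap_map b) ^ p) ↔
    ∃ h : σ → R', ∀ i, pFrob sig p (f' i) - f' i ^ p
        - (p : R') * ∑ j, pderiv j (f' i) ^ p * h j ∈ Ideal.span {(p : R')} * Ideal.span (Set.range f') := by
  set J := Ideal.span (Set.range f') with hJ
  set mk := Ideal.Quotient.mk J
  set π := Ideal.quotientMap (J.map red) red Ideal.le_comap_map
  have hp : p ≠ 0 := (Fact.out : p.Prime).ne_zero
  have hfJ : ∀ i, f' i ∈ J := fun i => Ideal.subset_span ⟨i, rfl⟩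
  constructor
  · rintro ⟨Φ, hΦ1, hΦ2⟩
    have hx : ∀ i, ∃ t, Φ (mk (X i)) = mk (X i ^ p + (p : R') * t) := by
      intro i
      obtain ⟨b', hb'⟩ := (quot_pi_eq_zero_iff D J (Φ (mk (X i)) - mk (X i) ^ p)).1 (by
        rw [map_sub, map_pow, hΦ2, sub_self])
      obtain ⟨t, rfl⟩ := Ideal.Quotient.mk_surjective b'
      exact ⟨t, by rw [map_add, map_mul, map_natCast, map_pow, ← hb']; ring⟩
    choose t ht using hx
    have hΦ : Φ.comp mk = mk.comp (tFrob sig p t) := by
      refine MvPolynomial.ringHom_ext (fun a => ?_) (fun i => ?_)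
      · have := RingHom.congr_fun hΦ1 a
        simpa [tFrob] using this
      · simpa [tFrob] using ht i
    refine ⟨fun j => -t j, fun i => ?_⟩
    have h0 : tFrob sig p t (f' i) ∈ J := by
      rw [← Ideal.Quotient.eq_zero_iff_mem]
      show (mk.comp (tFrob sig p t)) (f' i) = 0
      rw [← hΦ]
      show Φ (mk (f' i)) = 0
      rw [(Ideal.Quotient.eq_zero_iff_mem).2 (hfJ i), map_zero]
    set z := pFrob sig p (f' i) - f' i ^ p - (p : R') * ∑ j, pderiv j (f' i) ^ p * (-t j)
    have hzJ : z ∈ J := by
      have : z = tFrob sig p t (f' i) - f' i ^ p := by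
        simp only [z, tFrob_eq D, mul_neg, Finset.sum_neg_distrib]
        ring
      rw [this]
      exact sub_mem h0 (Ideal.pow_mem_of_mem J (hfJ i) p (Nat.pos_of_ne_zero hp))
    obtain ⟨g, hg⟩ := (map_res_eq_zero_iff D z).1 (by
      simp only [z, map_sub, map_mul, map_natCast, CharP.cast_eq_zero, zero_mul, sub_zero, map_pow]
      rw [← tFrob_zero, red_tFrob D, sub_self])
    obtain ⟨y, hy⟩ := htor (mk g) (by
      rw [← map_natCast mk, ← map_mul, ← hg]
      exact Ideal.Quotient.eq_zero_iff_mem.2 hzJ)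
    obtain ⟨e, rfl⟩ := Ideal.Quotient.mk_surjective y
    rw [← map_natCast mk, ← map_mul, Ideal.Quotient.eq] at hy
    rw [hg, Ideal.mem_span_singleton_mul]
    refine ⟨_, hy, ?_⟩
    rw [mul_sub, ← mul_assoc, p_sq_poly D, zero_mul, sub_zero]
  · rintro ⟨h, hh⟩
    have hle : J ≤ RingHom.ker (mk.comp (tFrob sig p fun j => -h j)) := by
      refine Ideal.span_le.2 ?_
      rintro _ ⟨i, rfl⟩
      refine RingHom.mem_ker.2 (Ideal.Quotient.eq_zero_iff_mem.2 ?_)
      have h1 := add_mem (Ideal.mul_le_right (hh i)) (Ideal.pow_mem_of_mem J (hfJ i) p (Nat.pos_of_ne_zero hp))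
      rw [tFrob_eq D]
      simp only [mul_neg, Finset.sum_neg_distrib]
      convert h1 using 1
      ring
    refine ⟨Ideal.Quotient.lift J (mk.comp (tFrob sig p fun j => -h j)) hle, ?_, fun b => ?_⟩
    · refine RingHom.ext fun a => ?_
      show mk (tFrob sig p (fun j => -h j) (C a)) = mk (C (sig a))
      rw [tFrob, eval₂Hom_C]; rfl
    · obtain ⟨f, rfl⟩ := Ideal.Quotient.mk_surjective b
      show π (mk (tFrob sig p _ f)) = π (mk f) ^ p
      simp only [π, mk, Ideal.quotientMap_mk, red_tFrob D, map_pow]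

include D in
/-- Lifts of a regular sequence cut out a flat quotient. -/
theorem torsion_of_regular {m : ℕ} (f : Fin m → MvPolynomial σ k)
    (hreg : RingTheory.Sequence.IsWeaklyRegular (MvPolynomial σ k) (List.ofFn f)) (f' : Fin m → R')
    (hf : ∀ i, red (f' i) = f i) :
    ∀ x : R' ⧸ Ideal.span (Set.range f'), (p : R' ⧸ Ideal.span (Set.range f')) * x = 0 →
      ∃ y, x = (p : R' ⧸ Ideal.span (Set.range f')) * y := by
  have hregi : ∀ i (hi : i < m), ∀ c : MvPolynomial σ k,
      c * f ⟨i, hi⟩ ∈ Ideal.span (f '' {j | j.val < i}) → c ∈ Ideal.span (f '' {j | j.val < i}) := by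
    intro i hi c hc
    have h := hreg.regular_mod_prev i (by simpa using hi)
    have hset : {x | x ∈ (List.ofFn f).take i} = f '' {j | j.val < i} := by
      ext x
      simp only [Set.mem_setOf_eq, List.mem_take_iff_getElem, Set.mem_image, List.getElem_ofFn, List.length_ofFn]
      constructor
      · rintro ⟨j, hj, rfl⟩; exact ⟨⟨j, by omega⟩, by simp only; omega, rfl⟩
      · rintro ⟨j, hj, rfl⟩; exact ⟨j.val, by omega, rfl⟩
    have hofl : Ideal.ofList ((List.ofFn f).take i) = Ideal.span (f '' {j | j.val < i}) := congrArg Ideal.span hset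
    have hI : (Ideal.ofList ((List.ofFn f).take i) • ⊤ : Submodule (MvPolynomial σ k) (MvPolynomial σ k)) =
        Ideal.span (f '' {j | j.val < i}) := by
      rw [hofl, smul_eq_mul, Ideal.mul_top]
    have h2 := h (a₁ := Submodule.Quotient.mk c) (a₂ := 0) (by
      simp only [smul_zero, List.getElem_ofFn]
      show f ⟨i, _⟩ • Submodule.Quotient.mk c = 0
      rw [← Submodule.Quotient.mk_smul, Submodule.Quotient.mk_eq_zero, hI, smul_eq_mul, mul_comm]
      exact hc)
    rwa [Submodule.Quotient.mk_eq_zero, hI] at h2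
  have main : ∀ i, i ≤ m → ∀ x : R', (p : R') * x ∈ Ideal.span (f' '' {j | j.val < i}) →
      ∃ g, x - (p : R') * g ∈ Ideal.span (f' '' {j | j.val < i}) := by
    intro i
    induction i with
    | zero =>
      intro _ x hx
      have he : f' '' {j : Fin m | j.val < 0} = ∅ := by simp
      rw [he, Ideal.span_empty, Ideal.mem_bot] at hx
      obtain ⟨g, hg⟩ := p_mul_eq_zero_poly D hx
      exact ⟨g, by rw [hg, sub_self]; exact zero_mem _⟩
    | succ i ih =>
      intro hi x hx
      have he : {j : Fin m | j.val < i + 1} = insert ⟨i, by omega⟩ {j | j.val < i} := by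
        ext j; simp [Fin.ext_iff]; omega
      rw [he, Set.image_insert_eq] at hx ⊢
      obtain ⟨c, y, hy, hxy⟩ := Ideal.mem_span_insert.1 hx
      have hcm : red c ∈ Ideal.span (f '' {j : Fin m | j.val < i}) := by
        refine hregi i (by omega) _ ?_
        have hymap : red y ∈ Ideal.span (f '' {j : Fin m | j.val < i}) := by
          have := Ideal.mem_map_of_mem red hy
          rwa [Ideal.map_span, Set.image_image, Set.image_congr fun j _ => hf j] at this
        have h0 := congrArg red hxy
        rw [map_mul, map_natCast, CharP.cast_eq_zero, zero_mul, map_add, map_mul, hf] at h0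
        rw [show red c * f ⟨i, _⟩ = -red y by linear_combination -h0]
        exact neg_mem hymap
      have hmap : (Ideal.span (f' '' {j : Fin m | j.val < i})).map red = Ideal.span (f '' {j : Fin m | j.val < i}) := by
        rw [Ideal.map_span, Set.image_image, Set.image_congr fun j _ => hf j]
      rw [← hmap, Ideal.mem_map_iff_of_surjective _ (MvPolynomial.map_surjective _ D.surj)] at hcm
      obtain ⟨y', hy', hy'c⟩ := hcm
      obtain ⟨e, he'⟩ := (map_res_eq_zero_iff D (c - y')).1 (by rw [map_sub, hy'c, sub_self])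
      obtain ⟨g, hg⟩ := ih (by omega) (x - e * f' ⟨i, by omega⟩) (by
        rw [mul_sub, hxy, show c = y' + (p : R') * e by linear_combination he']
        rw [show (y' + (p : R') * e) * f' ⟨i, _⟩ + y - (p : R') * (e * f' ⟨i, _⟩) = y' * f' ⟨i, by omega⟩ + y by ring]
        exact add_mem (Ideal.mul_mem_right _ _ hy') hy)
      refine ⟨g, Ideal.mem_span_insert.2 ⟨e, _, hg, by ring⟩⟩
  intro x hx
  obtain ⟨x, rfl⟩ := Ideal.Quotient.mk_surjective x
  rw [← map_natCast (Ideal.Quotient.mk (Ideal.span (Set.range f'))), ← map_mul,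
    Ideal.Quotient.eq_zero_iff_mem] at hx
  have hall : f' '' {j : Fin m | j.val < m} = Set.range f' := by
    ext z
    simp [Set.mem_image]
  obtain ⟨g, hg⟩ := main m le_rfl x (by rwa [hall])
  rw [hall] at hg
  exact ⟨Ideal.Quotient.mk _ g, by
    rw [← map_natCast (Ideal.Quotient.mk (Ideal.span (Set.range f'))), ← map_mul, Ideal.Quotient.eq]
    exact hg⟩

end Groth.Agent.FrobAlg53
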