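import Mathlib
import Groth.Prelude.Def_W4c1liftfrobW2
import Groth.Agent.FrobAlg53.Lift
import Groth.Agent.FrobAlg53.FrobLift

set_option linter.unusedSectionVars false

universe u

namespace Groth.Agent.FrobAlg53

open FrobAlg MvPolynomial

variable {p : ℕ} [Fact p.Prime] {k : Type u} [Field k] [CharP k p] [PerfectRing k p]

theorem w2Data : W2Data p k (FrobAlg.W2 p k) (FrobAlg.res p k) (FrobAlg.sigma p k) where
  surj := res_surjective
  ker w h := (res_eq_zero_iff w).1 h
  tor w h := (p_mul_eq_zero_iff w).1 h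
  sq := p_sq
  semi w := by
    show FrobAlg.res p k (FrobAlg.sigma p k w) = FrobAlg.res p k w ^ p
    simp only [res_apply]
    exact WittGrp.coeff_frob p 2 (CharP.cast_eq_zero k p) w 0

variable {n m : ℕ}

theorem polyFrob_eq : (FrobAlg.polyFrob p k (Fin n) :
    MvPolynomial (Fin n) (FrobAlg.W2 p k) →+* MvPolynomial (Fin n) (FrobAlg.W2 p k)) =
    pFrob (σ := Fin n) (W := FrobAlg.W2 p k) (FrobAlg.sigma p k) p := rfl

/-- The reduction of a quotient of the polynomial ring. -/
noncomputable def qred (f' : Fin m → MvPolynomial (Fin n) (FrobAlg.W2 p k)) (f : Fin m → MvPolynomial (Fin n) k)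
    (hf : ∀ i, MvPolynomial.map (FrobAlg.res p k) (f' i) = f i) :
    MvPolynomial (Fin n) (FrobAlg.W2 p k) ⧸ Ideal.span (Set.range f') →+*
      MvPolynomial (Fin n) k ⧸ Ideal.span (Set.range f) :=
  Ideal.Quotient.lift _ ((Ideal.Quotient.mk _).comp (MvPolynomial.map (FrobAlg.res p k))) (by
    intro a ha
    have hle : Ideal.span (Set.range f') ≤
        RingHom.ker ((Ideal.Quotient.mk (Ideal.span (Set.range f))).comp (MvPolynomial.map (FrobAlg.res p k))) := by
      refine Ideal.span_le.2 ?_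
      rintro _ ⟨i, rfl⟩
      refine RingHom.mem_ker.2 (Ideal.Quotient.eq_zero_iff_mem.2 ?_)
      rw [hf]
      exact Ideal.subset_span ⟨i, rfl⟩
    exact hle ha)

theorem qred_isLift (f' : Fin m → MvPolynomial (Fin n) (FrobAlg.W2 p k)) (f : Fin m → MvPolynomial (Fin n) k)
    (hf : ∀ i, MvPolynomial.map (FrobAlg.res p k) (f' i) = f i)
    (hreg : RingTheory.Sequence.IsWeaklyRegular (MvPolynomial (Fin n) k) (List.ofFn f)) :
    IsLift p k (MvPolynomial (Fin n) k ⧸ Ideal.span (Set.range f))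
      (MvPolynomial (Fin n) (FrobAlg.W2 p k) ⧸ Ideal.span (Set.range f'))
      ((Ideal.Quotient.mk _).comp MvPolynomial.C) (qred f' f hf) := by
  refine isLift_mk (torsion_of_regular w2Data f hreg f' hf) ?_ ?_ ?_
  · exact Ideal.Quotient.lift_surjective_of_surjective _ _
      (Ideal.Quotient.mk_surjective.comp (MvPolynomial.map_surjective _ res_surjective))
  · intro x hx
    refine (quot_pi_eq_zero_iff w2Data _ x).1 ?_
    obtain ⟨g, rfl⟩ := Ideal.Quotient.mk_surjective x
    rw [Ideal.quotientMap_mk, Ideal.Quotient.eq_zero_iff_mem, Ideal.map_span, ← Set.range_comp]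
    rw [show (MvPolynomial.map (FrobAlg.res p k)) ∘ f' = f from funext hf]
    exact Ideal.Quotient.eq_zero_iff_mem.1 hx
  · refine RingHom.ext fun w => ?_
    show Ideal.Quotient.mk _ (MvPolynomial.map (FrobAlg.res p k) (MvPolynomial.C w)) = _
    rw [map_C]; rfl

theorem qred_eq_iff (f' : Fin m → MvPolynomial (Fin n) (FrobAlg.W2 p k)) (f : Fin m → MvPolynomial (Fin n) k)
    (hf : ∀ i, MvPolynomial.map (FrobAlg.res p k) (f' i) = f i)
    (x y : MvPolynomial (Fin n) (FrobAlg.W2 p k) ⧸ Ideal.span (Set.range f')) :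
    qred f' f hf x = qred f' f hf y ↔
      Ideal.quotientMap ((Ideal.span (Set.range f')).map (MvPolynomial.map (FrobAlg.res p k)))
          (MvPolynomial.map (FrobAlg.res p k)) Ideal.le_comap_map x =
        Ideal.quotientMap ((Ideal.span (Set.range f')).map (MvPolynomial.map (FrobAlg.res p k)))
          (MvPolynomial.map (FrobAlg.res p k)) Ideal.le_comap_map y := by
  obtain ⟨a, rfl⟩ := Ideal.Quotient.mk_surjective x
  obtain ⟨b, rfl⟩ := Ideal.Quotient.mk_surjective y
  rw [Ideal.quotientMap_mk, Ideal.quotientMap_mk, Ideal.Quotient.eq]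
  show Ideal.Quotient.mk _ _ = Ideal.Quotient.mk _ _ ↔ _
  rw [Ideal.Quotient.eq, Ideal.map_span, ← Set.range_comp,
    show (MvPolynomial.map (FrobAlg.res p k)) ∘ f' = f from funext hf]

theorem isFLiftable_ci_iff (f : Fin m → MvPolynomial (Fin n) k)
    (hreg : RingTheory.Sequence.IsWeaklyRegular (MvPolynomial (Fin n) k) (List.ofFn f)) :
    FrobAlg.IsFLiftable p k (MvPolynomial (Fin n) k ⧸ Ideal.span (Set.range f)) ↔
    ∃ (f' : Fin m → MvPolynomial (Fin n) (FrobAlg.W2 p k)) (h : Fin n → MvPolynomial (Fin n) (FrobAlg.W2 p k)),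
      (∀ i, MvPolynomial.map (FrobAlg.res p k) (f' i) = f i) ∧
      ∀ i, FrobAlg.polyFrob p k (Fin n) (f' i) - f' i ^ p
        - (p : MvPolynomial (Fin n) (FrobAlg.W2 p k)) * ∑ j, MvPolynomial.pderiv j (f' i) ^ p * h j
        ∈ Ideal.span {(p : MvPolynomial (Fin n) (FrobAlg.W2 p k))} * Ideal.span (Set.range f') := by
  rw [polyFrob_eq]
  constructor
  · rintro ⟨A', _, ι, π, Φ, hΦ⟩
    have hA := hΦ.toIsLift
    choose v hv using fun i => hA.surj (Ideal.Quotient.mk (Ideal.span (Set.range f)) (X i))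
    let Ψ : MvPolynomial (Fin n) (FrobAlg.W2 p k) →+* A' := eval₂Hom ι v
    have hΨ : ∀ g, π (Ψ g) = Ideal.Quotient.mk _ (MvPolynomial.map (FrobAlg.res p k) g) := by
      intro g
      refine RingHom.congr_fun (f := π.comp Ψ) (g := (Ideal.Quotient.mk _).comp (MvPolynomial.map (FrobAlg.res p k)))
        (MvPolynomial.ringHom_ext (fun a => ?_) (fun i => ?_)) g
      · show π (Ψ (C a)) = Ideal.Quotient.mk _ (MvPolynomial.map (FrobAlg.res p k) (C a))
        rw [map_C, eval₂Hom_C, show π (ι a) = algebraMap k _ (res p k a) from RingHom.congr_fun hA.comm a]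
        rfl
      · show π (Ψ (X i)) = Ideal.Quotient.mk _ (MvPolynomial.map (FrobAlg.res p k) (X i))
        rw [map_X, eval₂Hom_X', hv]
    have hlift1 : ∀ a, ∃ g b, a = Ψ g + (p : A') * b := by
      intro a
      obtain ⟨z, hz⟩ := Ideal.Quotient.mk_surjective (π a)
      obtain ⟨g, rfl⟩ := MvPolynomial.map_surjective _ (res_surjective (p := p)) z
      obtain ⟨b, hb⟩ := (lift_ker hA (a - Ψ g)).1 (by rw [map_sub, hΨ, hz, sub_self])
      exact ⟨g, b, by rw [← hb]; ring⟩
    have hsurj : Function.Surjective Ψ := by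
      intro a
      obtain ⟨g, b, rfl⟩ := hlift1 a
      obtain ⟨g', b', rfl⟩ := hlift1 b
      refine ⟨g + (p : MvPolynomial (Fin n) (FrobAlg.W2 p k)) * g', ?_⟩
      rw [map_add, map_mul, map_natCast, mul_add, ← mul_assoc (p : A'), p_sq_of_hom ι, zero_mul, add_zero]
    have hfix : ∀ i, ∃ g, MvPolynomial.map (FrobAlg.res p k) g = f i ∧ Ψ g = 0 := by
      intro i
      obtain ⟨g0, hg0⟩ := MvPolynomial.map_surjective _ (res_surjective (p := p)) (f i)
      obtain ⟨a, ha⟩ := (lift_ker hA (Ψ g0)).1 (by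
        rw [hΨ, hg0, Ideal.Quotient.eq_zero_iff_mem]; exact Ideal.subset_span ⟨i, rfl⟩)
      obtain ⟨g1, rfl⟩ := hsurj a
      refine ⟨g0 - (p : MvPolynomial (Fin n) (FrobAlg.W2 p k)) * g1, ?_, ?_⟩
      · rw [map_sub, map_mul, map_natCast, CharP.cast_eq_zero, zero_mul, sub_zero, hg0]
      · rw [map_sub, map_mul, map_natCast, ha, sub_self]
    choose f' hf' hf'0 using hfix
    have hle : Ideal.span (Set.range f') ≤ RingHom.ker Ψ := by
      refine Ideal.span_le.2 ?_
      rintro _ ⟨i, rfl⟩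
      exact hf'0 i
    let e := Ideal.Quotient.lift _ Ψ hle
    have hL := qred_isLift f' f hf' hreg
    have he : π.comp e = qred f' f hf' := Ideal.Quotient.ringHom_ext (RingHom.ext fun g => hΨ g)
    have he' : ∀ x, π (e x) = qred f' f hf' x := fun x => RingHom.congr_fun he x
    let E := RingEquiv.ofBijective e (bijective_of_isLift hL hA e he)
    obtain ⟨h, hh⟩ := (frob_lift_iff w2Data f' (torsion_of_regular w2Data f hreg f' hf')).1
      ⟨E.symm.toRingHom.comp (Φ.comp e), RingHom.ext fun w => E.injective (by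
          have hC : ∀ a, e (Ideal.Quotient.mk _ (C a)) = ι a := fun a => eval₂Hom_C _ _ a
          show E (E.symm (Φ (e (Ideal.Quotient.mk _ (C w))))) = e (Ideal.Quotient.mk _ (C (sigma p k w)))
          rw [RingEquiv.apply_symm_apply, hC, hC]
          exact RingHom.congr_fun hΦ.semi w), fun b => by
        rw [← map_pow, ← qred_eq_iff f' f hf', map_pow, ← he', ← he']
        show π (E (E.symm (Φ (e b)))) = π (e b) ^ p
        rw [RingEquiv.apply_symm_apply, hΦ.red]⟩
    exact ⟨f', h, hf', hh⟩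
  · rintro ⟨f', h, hf', hh⟩
    obtain ⟨Φ, hΦ1, hΦ2⟩ := (frob_lift_iff w2Data f' (torsion_of_regular w2Data f hreg f' hf')).2 ⟨h, hh⟩
    refine ⟨_, inferInstance, _, qred f' f hf', Φ, { toIsLift := qred_isLift f' f hf' hreg, semi := hΦ1, red := fun b => ?_ }⟩
    rw [← map_pow, qred_eq_iff, map_pow]
    exact hΦ2 b

end Groth.Agent.FrobAlg53
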