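import Groth.Prelude.Def_W4c1imperftorsorsPerf
import Mathlib

set_option autoImplicit false
set_option linter.unusedSectionVars false
universe u
open scoped TensorProduct
open Polynomial W4c1imperftorsors

namespace Groth.Agent.FrobAlg53.PrePerf

variable {p : ℕ} [Fact p.Prime] {R : Type u} [CommRing R] [CharP R p] {u v : R}

abbrev B (u v : R) : Type u := R[X] ⧸ Ideal.span {(C u * X : R[X]), X ^ 2 - C (v ^ 2)}

noncomputable abbrev α (u v : R) : B u v := Ideal.Quotient.mk _ X

theorem mk_C (r : R) : Ideal.Quotient.mk _ (C r) = algebraMap R (B u v) r := rfl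

theorem u_mul_α : algebraMap R (B u v) u * α u v = 0 := by
  rw [← mk_C, ← map_mul, Ideal.Quotient.eq_zero_iff_mem]
  exact Ideal.subset_span (Or.inl rfl)

theorem α_sq : α u v ^ 2 = algebraMap R (B u v) (v ^ 2) := by
  rw [← mk_C, ← map_pow, Ideal.Quotient.mk_eq_mk_iff_sub_mem]
  exact Ideal.subset_span (Or.inr rfl)

theorem exists_rep (x : B u v) :
    ∃ a b : R, x = algebraMap R (B u v) a + algebraMap R (B u v) b * α u v := by
  obtain ⟨f, rfl⟩ := Ideal.Quotient.mk_surjective x
  induction f using Polynomial.induction_on with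
  | C a => exact ⟨a, 0, by rw [mk_C, map_zero, zero_mul, add_zero]⟩
  | add f g hf hg =>
    obtain ⟨a, b, hab⟩ := hf; obtain ⟨c, d, hcd⟩ := hg
    exact ⟨a + c, b + d, by rw [map_add, hab, hcd, map_add, map_add]; ring⟩
  | monomial n a h =>
    obtain ⟨c, d, hcd⟩ := h
    refine ⟨d * v ^ 2, c, ?_⟩
    rw [show C a * X ^ (n + 1) = (C a * X ^ n) * X from by ring, map_mul, hcd]
    change (algebraMap R (B u v) c + algebraMap R (B u v) d * α u v) * α u v = _
    rw [map_mul, ← α_sq]; ring

/-- The inclusion of `B` in the second factor. -/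
noncomputable abbrev ins (p : ℕ) (i : ℕ) (x : B u v) : ASrc p R (B u v) i := (aEquiv p R (B u v) i).symm x

/-- `a ⊗ 1 + b ⊗ α`. -/
noncomputable def el (i : ℕ) (a b : R) : Twist p R (B u v) i :=
  a ⊗ₜ[Src p R i] ins p i 1 + b ⊗ₜ[Src p R i] ins p i (α u v)

theorem tmul_smul' (i : ℕ) (r s : R) (x : B u v) :
    r ⊗ₜ[Src p R i] ins p i (algebraMap R (B u v) s * x) = (s ^ p ^ i * r) ⊗ₜ[Src p R i] ins p i x := by
  have h1 : ins p i (algebraMap R (B u v) s * x)
      = (srcEquiv p R i).symm s • (ins p i x : ASrc p R (B u v) i) := by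
    rw [Algebra.smul_def, algebraMap_aSrc, RingEquiv.apply_symm_apply]
    exact map_mul _ _ _
  rw [h1, TensorProduct.tmul_smul, TensorProduct.smul_tmul', Algebra.smul_def, algebraMap_src,
    RingEquiv.apply_symm_apply]

theorem exists_el (i : ℕ) (t : Twist p R (B u v) i) : ∃ a b, t = el i a b := by
  induction t using TensorProduct.induction_on with
  | zero => exact ⟨0, 0, by simp [el]⟩
  | tmul r y =>
    obtain ⟨a, b, hab⟩ := exists_rep (aEquiv p R (B u v) i y)
    refine ⟨a ^ p ^ i * r, b ^ p ^ i * r, ?_⟩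
    rw [← (aEquiv p R (B u v) i).symm_apply_apply y, hab, map_add, TensorProduct.tmul_add,
      ← mul_one (algebraMap R (B u v) a), tmul_smul', tmul_smul']
    rfl
  | add x y hx hy =>
    obtain ⟨a, b, rfl⟩ := hx; obtain ⟨c, d, rfl⟩ := hy
    exact ⟨a + c, b + d, by simp only [el, TensorProduct.add_tmul]; abel⟩

theorem el_of_mem_span (i : ℕ) (a b : R) (hb : b ∈ Ideal.span {u ^ p ^ i}) :
    (el i a b : Twist p R (B u v) i) = algebraMap R _ a := by
  obtain ⟨c, rfl⟩ := Ideal.mem_span_singleton'.1 hb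
  have : ((c * u ^ p ^ i) ⊗ₜ[Src p R i] ins p i (α u v) : Twist p R (B u v) i) = 0 := by
    rw [mul_comm c, ← tmul_smul', u_mul_α]
    simp [ins]
  rw [el, this, add_zero, Algebra.TensorProduct.algebraMap_apply]
  simp [ins]

/-- A ring map out of the twist. -/
theorem exists_hom (i : ℕ) {S : Type u} [CommRing S] (ψ : R →+* S) (φ : B u v →+* S)
    (hc : ∀ r, φ (algebraMap R (B u v) r) = ψ (r ^ p ^ i)) :
    ∃ f : Twist p R (B u v) i →+* S, ∀ r x, f (r ⊗ₜ[Src p R i] ins p i x) = ψ r * φ x := by
  letI : Algebra (Src p R i) S := (ψ.comp (algebraMap (Src p R i) R)).toAlgebra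
  let f₁ : R →ₐ[Src p R i] S := { ψ with commutes' := fun s => rfl }
  let f₂ : ASrc p R (B u v) i →ₐ[Src p R i] S :=
    { φ.comp (aEquiv p R (B u v) i : ASrc p R (B u v) i →+* B u v) with
      commutes' := fun s => by
        change φ (aEquiv p R (B u v) i (algebraMap (Src p R i) _ s)) = ψ (algebraMap (Src p R i) R s)
        rw [algebraMap_aSrc, RingEquiv.apply_symm_apply, hc, algebraMap_src] }
  refine ⟨(Algebra.TensorProduct.lift f₁ f₂ (fun _ _ => Commute.all _ _)).toRingHom, fun r x => ?_⟩
  simp only [AlgHom.toRingHom_eq_coe, RingHom.coe_coe, Algebra.TensorProduct.lift_tmul]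
  change ψ r * φ (aEquiv p R (B u v) i (ins p i x)) = _
  rw [RingEquiv.apply_symm_apply]

theorem coeff_u (i : ℕ) {a b a' b' : R} (h : (el i a b : Twist p R (B u v) i) = el i a' b') :
    b - b' ∈ Ideal.span {u ^ p ^ i} := by
  classical
  let Q := R ⧸ Ideal.span {u ^ p ^ i}
  let q : R →+* Q := Ideal.Quotient.mk _
  let g : Q[X] := X ^ 2 - C (q (v ^ 2) ^ p ^ i)
  let S := AdjoinRoot g
  let ψ : R →+* S := (AdjoinRoot.of g).comp q
  let φ : B u v →+* S := Ideal.Quotient.lift _
    (eval₂RingHom (ψ.comp (iterateFrobenius R p i)) (AdjoinRoot.root g)) (by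
      intro x hx
      induction hx using Submodule.span_induction with
      | mem y hy =>
        rcases hy with rfl | rfl
        · simp only [coe_eval₂RingHom, eval₂_mul, eval₂_C, eval₂_X, RingHom.comp_apply,
            iterateFrobenius_def, ψ, q]
          rw [Ideal.Quotient.eq_zero_iff_mem.2 (Ideal.mem_span_singleton_self _), map_zero, zero_mul]
        · have hr : AdjoinRoot.root g ^ 2 = AdjoinRoot.of g (q (v ^ 2) ^ p ^ i) := by
            rw [← sub_eq_zero, ← AdjoinRoot.mk_X, ← AdjoinRoot.mk_C, ← map_pow, ← map_sub]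
            exact AdjoinRoot.mk_self
          simp only [coe_eval₂RingHom, eval₂_sub, eval₂_X_pow, eval₂_C, RingHom.comp_apply,
            iterateFrobenius_def, ψ]
          rw [hr, ← map_pow q, sub_self]
      | zero => exact map_zero _
      | add y z _ _ hy hz => rw [map_add, hy, hz, add_zero]
      | smul r y _ hy => rw [smul_eq_mul, map_mul, hy, mul_zero])
  obtain ⟨f, hf⟩ := exists_hom i ψ φ (fun r => by
    rw [← mk_C]
    simp [φ, iterateFrobenius_def])
  have h1 := congrArg f h
  simp only [el, map_add, hf] at h1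
  simp only [map_one, mul_one] at h1
  have hα : φ (α u v) = AdjoinRoot.mk g X := by simp [φ]
  have h2 : AdjoinRoot.mk g (C (q (a - a')) + C (q (b - b')) * X) = 0 := by
    rw [map_add, map_mul, ← hα, AdjoinRoot.mk_C, AdjoinRoot.mk_C, map_sub, map_sub, map_sub, map_sub]
    simp only [ψ, RingHom.comp_apply] at h1
    linear_combination h1
  rw [AdjoinRoot.mk_eq_zero] at h2
  rw [← Ideal.Quotient.eq_zero_iff_mem]
  have hm : g.Monic := monic_X_pow_sub_C _ two_ne_zero
  obtain ⟨w, hw⟩ := h2
  change q (b - b') = 0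
  by_cases hw0 : w = 0
  · have := congrArg (fun P => coeff P 1) hw
    simpa [hw0, coeff_C] using this
  rcases subsingleton_or_nontrivial Q with hQ | hQ
  · exact Subsingleton.elim _ _
  exfalso
  have hd : g.natDegree = 2 := natDegree_X_pow_sub_C
  have h3 : (g * w).natDegree = 2 + w.natDegree := by rw [hm.natDegree_mul' hw0, hd]
  have h4 : (C (q (a - a')) + C (q (b - b')) * X).natDegree ≤ 1 := by
    rw [add_comm]; exact natDegree_linear_le
  rw [hw, h3] at h4
  omega

theorem coeff_one (hp : p ≠ 2) (huv : u * v = 0) (i : ℕ) {a b a' b' : R}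
    (h : (el i a b : Twist p R (B u v) i) = el i a' b') : a = a' := by
  have key : ∀ w : R, u * w = 0 → w ^ 2 = v ^ 2 → a + b * w ^ p ^ i = a' + b' * w ^ p ^ i := by
    intro w hw hw2
    let φ : B u v →+* R := (iterateFrobenius R p i).comp (Ideal.Quotient.lift _ (evalRingHom w) (by
      intro x hx
      induction hx using Submodule.span_induction with
      | mem y hy =>
        rcases hy with rfl | rfl
        · simp [hw]
        · simp [hw2]
      | zero => exact map_zero _
      | add y z _ _ hy hz => rw [map_add, hy, hz, add_zero]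
      | smul r y _ hy => rw [smul_eq_mul, map_mul, hy, mul_zero]))
    obtain ⟨f, hf⟩ := exists_hom i (RingHom.id R) φ (fun r => by
      rw [← mk_C]; simp [φ, iterateFrobenius_def])
    have h1 := congrArg f h
    have hα : φ (α u v) = w ^ p ^ i := by simp [φ, iterateFrobenius_def]
    simp only [el, map_add, hf] at h1
    simp only [map_one, mul_one, hα, RingHom.id_apply] at h1
    exact h1
  have h1 := key v huv rfl
  have h2 := key (-v) (by rw [mul_neg, huv, neg_zero]) (neg_sq v)
  have hodd : Odd (p ^ i) := ((Fact.out : p.Prime).odd_of_ne_two hp).pow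
  rw [hodd.neg_pow] at h2
  obtain ⟨m, hm⟩ := (Fact.out : p.Prime).odd_of_ne_two hp
  have hpz : (2 * m + 1 : R) = 0 := by
    have := CharP.cast_eq_zero R p
    rw [hm] at this; push_cast at this; exact this
  linear_combination (-(m : R)) * h1 + (-(m : R)) * h2 + (a - a') * hpz

theorem relFrob_el [CharP (B u v) p] (hp : p ≠ 2) (i : ℕ) (a b : R) :
    W4c1imperftorsors.relFrob p R (B u v) i (el (i + 1) a b)
      = el i a (b * v ^ ((p - 1) * p ^ i)) := by
  have h : ∀ r x, W4c1imperftorsors.relFrob p R (B u v) i (r ⊗ₜ[Src p R (i + 1)] ins p (i + 1) x)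
      = r ⊗ₜ[Src p R i] ins p i (x ^ p) := by
    intro r x
    change relFrobAux p R (B u v) i (r ⊗ₜ[Src p R (i + 1)] ins p (i + 1) x) = _
    rw [relFrobAux, Algebra.TensorProduct.lift_tmul]
    change (r ⊗ₜ[Src p R i] (1 : ASrc p R (B u v) i)) * ((1 : R) ⊗ₜ[Src p R i]
      ins p i (frobenius (B u v) p (aEquiv p R (B u v) (i + 1) (ins p (i + 1) x)))) = _
    rw [RingEquiv.apply_symm_apply, frobenius_def, Algebra.TensorProduct.tmul_mul_tmul, mul_one,
      one_mul]
  obtain ⟨m, hm⟩ := (Fact.out : p.Prime).odd_of_ne_two hp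
  have hα : α u v ^ p = algebraMap R (B u v) (v ^ (p - 1)) * α u v := by
    rw [hm, pow_succ, pow_mul, α_sq, ← map_pow, ← pow_mul, Nat.add_sub_cancel]
  rw [el, map_add, h, h, one_pow, hα, tmul_smul', ← pow_mul, mul_comm _ b]
  rfl

theorem bijective [CharP (B u v) p] (hp : p ≠ 2) (huv : u * v = 0)
    (hsep : ∀ N : ℕ, 1 ≤ N → ∀ g : R,
      (∀ n : ℕ, g ∈ Ideal.span {v ^ n} ⊔ Ideal.span {u ^ N}) → g ∈ Ideal.span {u ^ N}) :
    Function.Bijective (algebraMap R ↥(prePerf p R (B u v))) := by
  constructor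
  · intro r s hrs
    have : algebraMap R (Twist p R (B u v) 0) r = algebraMap R (Twist p R (B u v) 0) s :=
      congrFun (congrArg Subtype.val hrs) 0
    rw [← el_of_mem_span 0 r 0 (zero_mem _), ← el_of_mem_span 0 s 0 (zero_mem _)] at this
    exact coeff_one hp huv 0 this
  · rintro ⟨x, hx⟩
    have hx' : ∀ i, W4c1imperftorsors.relFrob p R (B u v) i (x (i + 1)) = x i :=
      fun i => (Algebra.mem_iInf.1 hx) i
    choose a b hab using fun i => exists_el i (x i)
    have ha : ∀ i, a i = a 0 := by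
      intro i
      induction i with
      | zero => rfl
      | succ i ih =>
        rw [← ih]
        refine coeff_one hp huv i (b := b (i + 1) * v ^ ((p - 1) * p ^ i)) (b' := b i) ?_
        rw [← relFrob_el hp, ← hab, hx', hab]
    have hv : ∀ n i, ∃ c, x i = el i (a 0) (c * v ^ n) := by
      intro n
      induction n with
      | zero => exact fun i => ⟨b i, by rw [pow_zero, mul_one, ← ha i, ← hab]⟩
      | succ n ih =>
        intro i
        obtain ⟨c, hc⟩ := ih (i + 1)
        have hk : 1 ≤ (p - 1) * p ^ i :=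
          Nat.mul_pos (Nat.sub_pos_of_lt (Fact.out : p.Prime).one_lt) (pow_pos (Fact.out : p.Prime).pos i)
        obtain ⟨k, hk'⟩ := Nat.exists_eq_add_of_le hk
        refine ⟨c * v ^ k, ?_⟩
        rw [← hx' i, hc, relFrob_el hp, hk']
        congr 1
        ring
    refine ⟨a 0, Subtype.ext (funext fun i => ?_)⟩
    change algebraMap R (Twist p R (B u v) i) (a 0) = x i
    have hmem : b i ∈ Ideal.span {u ^ p ^ i} :=
      hsep _ (pow_pos (Fact.out : p.Prime).pos i) _ fun n => by
        obtain ⟨c, hc⟩ := hv n i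
        have := coeff_u i ((hab i).symm.trans hc)
        rw [← add_sub_cancel (c * v ^ n) (b i)]
        exact add_mem (Ideal.mem_sup_left (Ideal.mem_span_singleton'.2 ⟨c, rfl⟩))
          (Ideal.mem_sup_right this)
    rw [hab i, el_of_mem_span i _ _ hmem, ha i]

end Groth.Agent.FrobAlg53.PrePerf
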