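import Mathlib
import Groth.Prelude.Def_W4c1liftfrobW2
import Groth.Agent.FrobAlg53.Lift

set_option linter.unusedSectionVars false

universe u

namespace Groth.Agent.FrobAlg53

open FrobAlg MvPolynomial

section Combinatorics
variable {R : Type u} [CommRing R] {n : ℕ}

/-- Three variables sent to `a, b, -(a+b)`, the others to zero. -/
noncomputable def threeVar (R : Type u) [CommRing R] (n : ℕ) : Fin n → MvPolynomial (Fin 2) R := fun i =>
  if i.val = 0 then X 0 else if i.val = 1 then X 1 else if i.val = 2 then -(X 0 + X 1) else 0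

theorem sum_threeVar (hn : 3 ≤ n) (f : MvPolynomial (Fin 2) R → MvPolynomial (Fin 2) R) (h0 : f 0 = 0) :
    ∑ i, f (threeVar R n i) = f (X 0) + f (X 1) + f (-(X 0 + X 1)) := by
  obtain ⟨m, rfl⟩ : ∃ m, n = m + 3 := ⟨n - 3, by omega⟩
  rw [Fin.sum_univ_succ, Fin.sum_univ_succ, Fin.sum_univ_succ]
  have hrest : ∀ i : Fin m, f (threeVar R (m + 3) i.succ.succ.succ) = 0 := by
    intro i; simp [threeVar, h0]
  rw [Finset.sum_eq_zero fun i _ => hrest i]
  have h2 : (2 : ℕ) % (m + 3) = 2 := Nat.mod_eq_of_lt (by omega)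
  simp [threeVar, add_assoc, h2]

/-- The exponent detecting the obstruction. -/
noncomputable def detExp (p : ℕ) : Fin 2 →₀ ℕ := Finsupp.single 0 1 + Finsupp.single 1 (p - 1)

theorem coeff_add_pow_det (p : ℕ) (hp : 2 ≤ p) :
    coeff (detExp p) ((X 0 + X 1 : MvPolynomial (Fin 2) R) ^ p) = p := by
  rw [add_pow, coeff_sum, Finset.sum_eq_single 1]
  · rw [← C_eq_coe_nat, mul_comm, coeff_C_mul, pow_one,
      show (X 0 : MvPolynomial (Fin 2) R) * X 1 ^ (p - 1) = monomial (detExp p) 1 from by
        rw [detExp, X_pow_eq_monomial, X, monomial_mul, one_mul],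
      coeff_monomial, if_pos rfl, mul_one, Nat.choose_one_right]
  · intro j _ hj
    rw [← C_eq_coe_nat, mul_comm, coeff_C_mul, X_pow_eq_monomial, X_pow_eq_monomial, monomial_mul,
      coeff_monomial, if_neg, mul_zero]
    intro h
    have := DFunLike.congr_fun h 0
    simp [detExp] at this
    exact hj this
  · intro h; simp at h; omega

theorem coeff_X_pow_det (p : ℕ) (hp : 2 ≤ p) (i : Fin 2) :
    coeff (detExp p) ((X i : MvPolynomial (Fin 2) R) ^ p) = 0 := by
  rw [coeff_X_pow, if_neg]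
  intro h
  have := DFunLike.congr_fun h (1 - i)
  fin_cases i <;> simp [detExp] at this <;> omega

end Combinatorics

theorem exists_freshman (p : ℕ) [Fact p.Prime] (n : ℕ) :
    ∃ C' : MvPolynomial (Fin n) ℤ, (∑ i, X i) ^ p = (∑ i, X i ^ p) + MvPolynomial.C (p : ℤ) * C' := by
  obtain ⟨q, hq⟩ : MvPolynomial.C (p : ℤ) ∣ ((∑ i, X i) ^ p - ∑ i, (X i : MvPolynomial (Fin n) ℤ) ^ p) := by
    rw [MvPolynomial.C_dvd_iff_zmod]
    simp only [map_sub, map_pow, map_sum, map_X]
    rw [sum_pow_char, sub_self]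
  exact ⟨q, by rw [← hq]; abel⟩

theorem coeff_freshman (p : ℕ) [Fact p.Prime] {n : ℕ} (hn : 3 ≤ n) (C' : MvPolynomial (Fin n) ℤ)
    (hC : (∑ i, X i) ^ p = (∑ i, X i ^ p) + MvPolynomial.C (p : ℤ) * C') :
    coeff (detExp p) (aeval (threeVar ℤ n) C') = -(-1) ^ p := by
  have hp : 2 ≤ p := (Fact.out : p.Prime).two_le
  have h := congrArg (aeval (threeVar ℤ n)) hC
  simp only [map_add, map_mul, map_sum, map_pow, aeval_X, aeval_C] at h
  have e1 := sum_threeVar (R := ℤ) hn id rfl
  simp only [id] at e1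
  rw [e1, sum_threeVar hn (fun x => x ^ p) (zero_pow (by omega))] at h
  rw [show (X 0 : MvPolynomial (Fin 2) ℤ) + X 1 + -(X 0 + X 1) = 0 by ring, zero_pow (by omega), neg_pow] at h
  have h2 := congrArg (coeff (detExp p)) h
  simp only [coeff_zero, coeff_add, algebraMap_eq, coeff_C_mul, coeff_X_pow_det p hp] at h2
  rw [show ((-1 : MvPolynomial (Fin 2) ℤ)) ^ p = MvPolynomial.C ((-1) ^ p) by simp, coeff_C_mul,
    coeff_add_pow_det p hp] at h2
  have hp0 : (p : ℤ) ≠ 0 := by exact_mod_cast (Fact.out : p.Prime).ne_zero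
  apply mul_left_cancel₀ hp0
  linear_combination -h2

variable {p : ℕ} [Fact p.Prime] {k : Type u} [Field k] [CharP k p]

theorem coeff_ideal_eq_zero (f : MvPolynomial (Fin 2) k)
    (hf : f ∈ Ideal.span {(X 0 : MvPolynomial (Fin 2) k) ^ p, X 1 ^ p}) : coeff (detExp p) f = 0 := by
  obtain ⟨g1, g2, rfl⟩ := Ideal.mem_span_pair.1 hf
  have hp : 2 ≤ p := (Fact.out : p.Prime).two_le
  rw [coeff_add, X_pow_eq_monomial, X_pow_eq_monomial, coeff_mul_monomial', coeff_mul_monomial',
    if_neg, if_neg, add_zero]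
  · intro h
    have := h 1
    simp [detExp] at this
    omega
  · intro h
    have := h 0
    simp [detExp] at this
    omega

theorem freshman_not_mem {n : ℕ} (hn : 3 ≤ n) (C' : MvPolynomial (Fin n) ℤ)
    (hC : (∑ i, X i) ^ p = (∑ i, X i ^ p) + MvPolynomial.C (p : ℤ) * C') :
    aeval (fun i => (X (i, (0 : Fin 2)) * X (i, (1 : Fin 2)) : MvPolynomial (Fin n × Fin 2) k)) C' ∉
      Ideal.span (insert (∑ i : Fin n, X (i, (0 : Fin 2)) * X (i, (1 : Fin 2)))
          (Set.range fun v : Fin n × Fin 2 => (X v : MvPolynomial (Fin n × Fin 2) k) ^ p)) := by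
  classical
  let ψ : Fin n → MvPolynomial (Fin 2) k := threeVar k n
  let Θ : MvPolynomial (Fin n × Fin 2) k →ₗ[k] MvPolynomial (Fin 2) k :=
    (basisMonomials _ k).constr k fun d =>
      if ∀ i, d (i, 0) = d (i, 1) then ∏ i, ψ i ^ d (i, 0) else 0
  have hΘm : ∀ d c, Θ (monomial d c) =
      c • (if ∀ i, d (i, 0) = d (i, 1) then ∏ i, ψ i ^ d (i, 0) else 0) := by
    intro d c
    have : monomial d c = c • basisMonomials (Fin n × Fin 2) k d := by simp [coe_basisMonomials, smul_monomial]
    rw [this, map_smul, Module.Basis.constr_basis]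
  have hstep : ∀ (i : Fin n) (h : MvPolynomial (Fin n × Fin 2) k),
      Θ (h * (X (i, 0) * X (i, 1))) = ψ i * Θ h := by
    intro i h
    induction h using MvPolynomial.induction_on' with
    | add a b ha hb => rw [add_mul, map_add, map_add, ha, hb, mul_add]
    | monomial d c =>
      rw [X, X, monomial_mul, monomial_mul, one_mul, mul_one, hΘm, hΘm]
      set e : (Fin n × Fin 2) →₀ ℕ := Finsupp.single (i, 0) 1 + Finsupp.single (i, 1) 1 with he
      have e0 : ∀ j, e (j, 0) = if j = i then 1 else 0 := fun j => by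
        simp [he, Finsupp.single_apply, eq_comm]
      have e1 : ∀ j, e (j, 1) = if j = i then 1 else 0 := fun j => by
        simp [he, Finsupp.single_apply, eq_comm]
      simp only [Finsupp.add_apply, e0, e1, add_left_inj]
      split_ifs with hd
      · rw [mul_smul_comm]
        congr 1
        simp only [pow_add, Finset.prod_mul_distrib, pow_ite, pow_one, pow_zero,
          Finset.prod_ite_eq', Finset.mem_univ, if_true, mul_comm]
      · rw [smul_zero, mul_zero]
  let Iab : Ideal (MvPolynomial (Fin 2) k) := Ideal.span {X 0 ^ p, X 1 ^ p}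
  have hψp : ∀ i, ψ i ^ p ∈ Iab := by
    intro i
    have hp0 : p ≠ 0 := (Fact.out : p.Prime).ne_zero
    simp only [ψ, threeVar]
    split_ifs
    · exact Ideal.subset_span (by simp)
    · exact Ideal.subset_span (by simp)
    · rw [neg_pow, add_pow_char]
      exact Ideal.mul_mem_left _ _ (Ideal.add_mem _ (Ideal.subset_span (by simp)) (Ideal.subset_span (by simp)))
    · rw [zero_pow hp0]; exact zero_mem _
  have hpow : ∀ (v : Fin n × Fin 2) (h : MvPolynomial (Fin n × Fin 2) k), Θ (h * X v ^ p) ∈ Iab := by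
    intro v h
    induction h using MvPolynomial.induction_on' with
    | add a b ha hb => rw [add_mul, map_add]; exact add_mem ha hb
    | monomial d c =>
      rw [X_pow_eq_monomial, monomial_mul, mul_one, hΘm]
      refine Submodule.smul_of_tower_mem _ _ ?_
      split_ifs with hd
      · obtain ⟨i, j⟩ := v
        refine Ideal.mem_of_dvd _ ((pow_dvd_pow (ψ i) ?_).trans
          (Finset.dvd_prod_of_mem (fun l => ψ l ^ ((d + Finsupp.single (i, j) p : (Fin n × Fin 2) →₀ ℕ) (l, 0))) (Finset.mem_univ i))) (hψp i)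
        have h01 := hd i
        fin_cases j <;> simp at h01 ⊢
        omega
      · exact zero_mem _
  have hI : ∀ f ∈ Ideal.span (insert (∑ i : Fin n, X (i, (0 : Fin 2)) * X (i, (1 : Fin 2)))
      (Set.range fun v : Fin n × Fin 2 => (X v : MvPolynomial (Fin n × Fin 2) k) ^ p)), Θ f ∈ Iab := by
    intro f hf
    obtain ⟨a, z, hz, rfl⟩ := Ideal.mem_span_insert.1 hf
    rw [map_add]
    refine add_mem ?_ ?_
    · rw [Finset.mul_sum, map_sum]
      simp only [hstep, ← Finset.sum_mul]
      have : ∑ i, ψ i = 0 := by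
        show ∑ i, id (threeVar k n i) = 0
        rw [sum_threeVar hn id rfl]; simp
      rw [this, zero_mul]; exact zero_mem _
    · obtain ⟨c, rfl⟩ := (Submodule.mem_span_range_iff_exists_fun _).1 hz
      rw [map_sum]
      exact Submodule.sum_mem _ fun v _ => hpow v (c v)
  intro hmem
  have h0 := coeff_ideal_eq_zero _ (hI _ hmem)
  have hσ : ∀ f : MvPolynomial (Fin n) ℤ,
      Θ (aeval (fun i => (X (i, (0 : Fin 2)) * X (i, (1 : Fin 2)) : MvPolynomial (Fin n × Fin 2) k)) f) =
        MvPolynomial.map (Int.castRingHom k) (aeval (threeVar ℤ n) f) := by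
    intro f
    induction f using MvPolynomial.induction_on with
    | C c =>
      rw [aeval_C, aeval_C, algebraMap_eq, map_C]
      show Θ ((c : MvPolynomial (Fin n × Fin 2) k)) = MvPolynomial.C ((c : k))
      rw [show (c : MvPolynomial (Fin n × Fin 2) k) = monomial 0 (c : k) from (map_intCast (MvPolynomial.C (R := k) (σ := Fin n × Fin 2)) c).symm, hΘm]
      simp [Algebra.smul_def]
    | add a b ha hb => simp only [map_add, ha, hb]
    | mul_X a i ha =>
      rw [map_mul, aeval_X, hstep, ha, map_mul, map_mul, aeval_X, mul_comm]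
      congr 1
      simp only [ψ, threeVar]
      split_ifs <;> simp
  rw [hσ, coeff_map, coeff_freshman p hn C' hC] at h0
  simp at h0

theorem not_isW2Liftable_quadric [PerfectRing k p] {n : ℕ} (hn : 3 ≤ n) :
    ¬ IsW2Liftable p k
      (MvPolynomial (Fin n × Fin 2) k ⧸ Ideal.span
        (insert (∑ i : Fin n, MvPolynomial.X (i, (0 : Fin 2)) * MvPolynomial.X (i, (1 : Fin 2)))
          (Set.range fun v : Fin n × Fin 2 => (MvPolynomial.X v : MvPolynomial (Fin n × Fin 2) k) ^ p))) := by
  set I := Ideal.span (insert (∑ i : Fin n, MvPolynomial.X (i, (0 : Fin 2)) * MvPolynomial.X (i, (1 : Fin 2)))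
    (Set.range fun v : Fin n × Fin 2 => (MvPolynomial.X v : MvPolynomial (Fin n × Fin 2) k) ^ p))
  rintro ⟨B, _, ι, π, hB⟩
  obtain ⟨C', hC⟩ := exists_freshman p n
  choose L hL using fun v => hB.surj (Ideal.Quotient.mk I (X v))
  have hp : 2 ≤ p := (Fact.out : p.Prime).two_le
  have hpow : ∀ v, ∃ a, L v ^ p = (p : B) * a := fun v => (lift_ker hB _).1 (by
    rw [map_pow, hL, ← map_pow, Ideal.Quotient.eq_zero_iff_mem]
    exact Ideal.subset_span (Set.mem_insert_of_mem _ ⟨v, rfl⟩))
  choose a ha using hpow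
  obtain ⟨g, hg⟩ : ∃ g, ∑ i, L (i, 0) * L (i, 1) = (p : B) * g := (lift_ker hB _).1 (by
    simp only [map_sum, map_mul, hL]
    simp only [← map_mul, ← map_sum]
    rw [Ideal.Quotient.eq_zero_iff_mem]
    exact Ideal.subset_span (Set.mem_insert _ _))
  set U : Fin n → B := fun i => L (i, 0) * L (i, 1) with hU
  have hp2 : (p : B) * (p : B) = 0 := p_sq_of_hom ι
  have h := congrArg (aeval U) hC
  simp only [map_add, map_mul, map_sum, map_pow, aeval_X, aeval_C, map_natCast] at h
  rw [show ∑ i, U i = (p : B) * g from hg] at h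
  have hL0 : ((p : B) * g) ^ p = 0 := by
    obtain ⟨t, ht⟩ := Nat.exists_eq_add_of_le hp
    have h2 : ((p : B) * g) ^ 2 = 0 := by rw [mul_pow, pow_two (p : B), hp2, zero_mul]
    generalize (p : B) * g = z at h2 ⊢
    rw [ht, pow_add, h2, zero_mul]
  have hsum : ∑ i, U i ^ p = 0 := by
    refine Finset.sum_eq_zero fun i _ => ?_
    rw [hU, mul_pow, ha, ha, mul_mul_mul_comm, hp2, zero_mul]
  rw [hL0, hsum, zero_add] at h
  have h2 : π (aeval U C') = 0 :=
    ((lift_mul_p_eq_iff hB _ 0).1 (by rw [mul_zero]; exact h.symm)).trans (map_zero π)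
  have h3 : Ideal.Quotient.mk I (aeval (fun i => X (i, (0 : Fin 2)) * X (i, (1 : Fin 2))) C') = π (aeval U C') := by
    have : (Ideal.Quotient.mk I).comp (aeval (R := ℤ) fun i => (X (i, (0 : Fin 2)) * X (i, (1 : Fin 2)) :
        MvPolynomial (Fin n × Fin 2) k)).toRingHom = π.comp (aeval (R := ℤ) U).toRingHom := by
      refine MvPolynomial.ringHom_ext (fun c => ?_) (fun i => ?_)
      · simp [map_intCast]
      · simp [hU, hL]
    exact RingHom.congr_fun this C'
  rw [h2, Ideal.Quotient.eq_zero_iff_mem] at h3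
  exact freshman_not_mem hn C' hC h3

end Groth.Agent.FrobAlg53
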