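import Mathlib
import Groth.Prelude.Def_W4c1liftfrobW2
import Groth.Agent.FrobAlg53.Lift

set_option linter.unusedSectionVars false

universe u

namespace Groth.Agent.FrobAlg53

open FrobAlg

variable {p : ℕ} [Fact p.Prime] {k : Type u} [Field k] [CharP k p] [PerfectRing k p]
variable {A B : Type u} [CommRing A] [CommRing B] [Algebra k A] [Algebra k B] [Algebra A B]
  [IsScalarTower k A B]
variable {r : B →ₗ[A] A} (hr : ∀ a : A, r (algebraMap A B a) = a)
variable {B' : Type u} [CommRing B'] {ιB : W2 p k →+* B'} {πB : B' →+* B}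
  (hB : IsLift p k B B' ιB πB)

/-- The preimage of `A` in a lift of `B`. -/
def preA (A : Type u) [CommRing A] [Algebra A B] (πB : B' →+* B) : Subring B' :=
  (algebraMap A B).range.comap πB

include hr in
theorem pre_r {c : B'} (hc : c ∈ preA A πB) : algebraMap A B (r (πB c)) = πB c := by
  obtain ⟨a, ha⟩ := hc
  rw [← ha, hr]

/-- The projection of the preimage to `A`. -/
def preHom : preA A πB →+* A where
  toFun c := r (πB c)
  map_one' := by rw [Subring.coe_one, map_one, ← map_one (algebraMap A B), hr]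
  map_zero' := by rw [Subring.coe_zero, map_zero, map_zero]
  map_add' x y := by rw [Subring.coe_add, map_add, map_add]
  map_mul' x y := by
    obtain ⟨a, ha⟩ := x.2
    obtain ⟨b, hb⟩ := y.2
    rw [Subring.coe_mul, map_mul, ← ha, ← hb, ← map_mul, hr, hr, hr]

include hB in
theorem p_mul_mem (b : B') : (p : B') * b ∈ preA A πB := by
  refine ⟨0, ?_⟩
  rw [map_zero, map_mul, lift_pi_p hB, zero_mul]

/-- Multiples `p·b` with `b` reducing into the kernel of the retraction. -/
def preKer : Ideal (preA A πB) where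
  carrier := {c | ∃ b : B', (c : B') = (p : B') * b ∧ r (πB b) = 0}
  add_mem' := by
    rintro x y ⟨b, hb, hb'⟩ ⟨c, hc, hc'⟩
    exact ⟨b + c, by rw [Subring.coe_add, hb, hc, mul_add], by rw [map_add, map_add, hb', hc', add_zero]⟩
  zero_mem' := ⟨0, by simp, by simp⟩
  smul_mem' := by
    rintro s x ⟨b, hb, hb'⟩
    obtain ⟨a, ha⟩ := s.2
    refine ⟨(s : B') * b, by rw [smul_eq_mul, Subring.coe_mul, hb, mul_left_comm], ?_⟩
    rw [map_mul, ← ha, ← Algebra.smul_def, map_smul, hb', smul_zero]

include hB in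
theorem preKer_le : ∀ c ∈ (preKer (p := p) (r := r) (πB := πB)), preHom hr c = (0 : A) := by
  rintro c ⟨b, hb, -⟩
  show r (πB c) = 0
  rw [hb, map_mul, lift_pi_p hB, zero_mul, map_zero]

/-- The lift of `A`. -/
noncomputable def retProj : (preA A πB) ⧸ (preKer (p := p) (r := r) (πB := πB)) →+* A :=
  Ideal.Quotient.lift _ (preHom hr) (preKer_le hr hB)

/-- The structure map of the lift of `A`. -/
noncomputable def retIncl : W2 p k →+* (preA A πB) ⧸ (preKer (p := p) (r := r) (πB := πB)) :=
  (Ideal.Quotient.mk _).comp (ιB.codRestrict (preA A πB) fun w => by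
    refine ⟨algebraMap k A (res p k w), ?_⟩
    rw [← IsScalarTower.algebraMap_apply]
    exact (RingHom.congr_fun hB.comm w).symm)

include hr in
theorem retIsLift : IsLift p k A ((preA A πB) ⧸ (preKer (p := p) (r := r) (πB := πB)))
    (retIncl hB) (retProj hr hB) := by
  set mk := Ideal.Quotient.mk (preKer (p := p) (r := r) (A := A) (πB := πB))
  -- multiples of p come from lifts of the retracted class
  have hkey : ∀ (c : preA A πB) (b : B'), (c : B') = (p : B') * b →
      ∃ y, mk c = (p : (preA A πB) ⧸ (preKer (p := p) (r := r) (πB := πB))) * y := by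
    intro c b hb
    obtain ⟨c', hc'⟩ := hB.surj (algebraMap A B (r (πB b)))
    let c'' : preA A πB := ⟨c', r (πB b), hc'.symm⟩
    refine ⟨mk c'', ?_⟩
    rw [← map_natCast mk, ← map_mul, Ideal.Quotient.eq]
    refine ⟨b - c', ?_, ?_⟩
    · rw [AddSubgroupClass.coe_sub, Subring.coe_mul, Subring.coe_natCast, hb, mul_sub]
    · rw [map_sub, map_sub, hc', hr, sub_self]
  refine isLift_mk ?_ ?_ ?_ ?_
  · intro x hx
    obtain ⟨c, rfl⟩ := Ideal.Quotient.mk_surjective x
    rw [← map_natCast mk, ← map_mul, Ideal.Quotient.eq_zero_iff_mem] at hx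
    obtain ⟨b, hb, hb'⟩ := hx
    rw [Subring.coe_mul, Subring.coe_natCast, lift_mul_p_eq_iff hB] at hb
    have h0 : πB c = 0 := by rw [← pre_r hr c.2, hb, hb', map_zero]
    obtain ⟨b0, hb0⟩ := (lift_ker hB _).1 h0
    exact hkey c b0 hb0
  · intro a
    obtain ⟨c, hc⟩ := hB.surj (algebraMap A B a)
    refine ⟨mk ⟨c, a, hc.symm⟩, ?_⟩
    show r (πB c) = a
    rw [hc, hr]
  · intro x hx
    obtain ⟨c, rfl⟩ := Ideal.Quotient.mk_surjective x
    have h0 : πB c = 0 := by
      rw [← pre_r hr c.2, show r (πB c) = 0 from hx, map_zero]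
    obtain ⟨b0, hb0⟩ := (lift_ker hB _).1 h0
    exact hkey c b0 hb0
  · refine RingHom.ext fun w => ?_
    show r (πB (ιB w)) = algebraMap k A (res p k w)
    rw [show πB (ιB w) = algebraMap k B (res p k w) from RingHom.congr_fun hB.comm w,
      IsScalarTower.algebraMap_apply k A B, hr]

include hr hB in
theorem isW2Liftable_retract : IsW2Liftable p k A :=
  ⟨_, inferInstance, _, _, retIsLift hr hB⟩

include hr in
theorem exists_frobLift_retract {A' : Type u} [CommRing A'] {ιA : W2 p k →+* A'} {πA : A' →+* A}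
    (hA : IsLift p k A A' ιA πA) (φ' : A' →+* B') (hφι : φ'.comp ιA = ιB)
    (hφπ : πB.comp φ' = (algebraMap A B).comp πA) (ΦB : B' →+* B')
    (hΦ : IsFrobLift p k B B' ιB πB ΦB) : ∃ ΦA : A' →+* A', IsFrobLift p k A A' ιA πA ΦA := by
  have hB := hΦ.toIsLift
  set mk := Ideal.Quotient.mk (preKer (p := p) (r := r) (A := A) (πB := πB))
  have hπ : ∀ a, πB (φ' a) = algebraMap A B (πA a) := fun a => RingHom.congr_fun hφπ a
  let e : A' →+* _ := mk.comp (φ'.codRestrict (preA A πB) fun a => ⟨πA a, (hπ a).symm⟩)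
  have he : (retProj hr hB).comp e = πA := by
    refine RingHom.ext fun a => ?_
    show r (πB (φ' a)) = πA a
    rw [hπ, hr]
  have hbij := bijective_of_isLift hA (retIsLift hr hB) e he
  let g : A' →+* _ := mk.comp ((ΦB.comp φ').codRestrict (preA A πB) fun a =>
    ⟨πA a ^ p, by rw [map_pow, ← hπ]; exact (hΦ.red _).symm⟩)
  let E := RingEquiv.ofBijective e hbij
  refine ⟨E.symm.toRingHom.comp g, { toIsLift := hA, semi := ?_, red := ?_ }⟩
  · refine RingHom.ext fun w => hbij.1 ?_
    show E (E.symm (g (ιA w))) = e (ιA (sigma p k w))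
    rw [RingEquiv.apply_symm_apply]
    refine congrArg mk (Subtype.ext ?_)
    show ΦB (φ' (ιA w)) = φ' (ιA (sigma p k w))
    rw [show φ' (ιA w) = ιB w from RingHom.congr_fun hφι w,
      show φ' (ιA (sigma p k w)) = ιB (sigma p k w) from RingHom.congr_fun hφι _]
    exact RingHom.congr_fun hΦ.semi w
  · intro a
    have h1 : πA (E.symm (g a)) = retProj hr hB (E (E.symm (g a))) :=
      (RingHom.congr_fun he _).symm
    show πA (E.symm (g a)) = πA a ^ p
    rw [h1, RingEquiv.apply_symm_apply]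
    show r (πB (ΦB (φ' a))) = _
    rw [hΦ.red, hπ, ← map_pow, hr]

end Groth.Agent.FrobAlg53
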